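import Cfsg.Agent.Lib.N9.A

/-! The virtual character `1 + χ - φ` attached to a strongly closed subgroup of index 3 in a Sylow 3-subgroup. -/

set_option autoImplicit false

namespace Cfsg.Lib.N9

open Cfsg Subgroup Cfsg.Lib.Char Cfsg.Lib.Modular Cfsg.Lib.Induce Cfsg.Lib.OddChar Cfsg.Lib.Block Finset
open scoped ComplexConjugate

variable {G : Type*} [Group G] [Fintype G]

open Classical in
/-- the elements whose 3-part is not conjugate into `K` -/
noncomputable def XX (K : Subgroup G) : Finset G := univ.filter fun g => ∀ k, k * pPart 3 g * k⁻¹ ∉ K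

theorem mem_XX {K : Subgroup G} {g : G} : g ∈ XX K ↔ ∀ k, k * pPart 3 g * k⁻¹ ∉ K := by simp [XX]

theorem XX_congr {K : Subgroup G} {u g : G} (h : IsConj (pPart 3 u) (pPart 3 g)) (m : u ∈ XX K) : g ∈ XX K := by
  obtain ⟨c, hc⟩ := isConj_iff.1 h
  rw [mem_XX] at m ⊢
  intro k
  simpa [← hc, mul_assoc] using m (k * c)

theorem mem_XX_of_sec {K : Subgroup G} {u g : G} (hu : ∃ k, orderOf u = 3 ^ k) (m : u ∈ XX K) (h : g ∈ sec u) :
    g ∈ XX K := XX_congr (by rw [pPart_of_pElt Nat.prime_three hu]; exact mem_sec.1 h) m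

theorem not_mem_XX {K : Subgroup G} {g : G} (h : ¬ 3 ∣ orderOf g) : g ∉ XX K := fun m =>
  mem_XX.1 m 1 (by rw [pPart_of_not_dvd Nat.prime_three h]; simp)

structure Tri (M : Ideal AlgInt) (X : Finset G) (χ φ : IrrCharacter G) (a b : G → ℤ) : Prop where
  ea : ∀ g, (χ : G → ℂ) g = a g
  eb : ∀ g, (φ : G → ℂ) g = b g
  n1 : χ ≠ irrOne G
  n2 : φ ≠ irrOne G
  m1 : χ ∈ principalBlock M G
  m2 : φ ∈ principalBlock M G
  inn : ∀ g ∈ X, 1 + a g - b g = 3
  out : ∀ g ∉ X, 1 + a g - b g = 0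
  one : (1 : G) ∉ X
  card : 3 * #X = Nat.card G

variable {M : Ideal AlgInt} [Modular 3 M]

theorem mem_principal_of_inner {X : Finset G} (hX : ∀ u g, IsConj (pPart 3 u) (pPart 3 g) → u ∈ X → g ∈ X)
    {Θ : G → ℂ} {c : ℂ} (h1 : ∀ g ∈ X, Θ g = c) (h0 : ∀ g ∉ X, Θ g = 0) {χ : IrrCharacter G}
    (h : classInner Θ χ ≠ 0) : χ ∈ principalBlock M G := by
  by_contra n
  have := classInner_indicator_eq_zero (M := M) (p := 3) (X := (X : Set G)) hX (χ := χ) (ψ := irrOne G)
    fun e => n (sameBlock_symm e)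
  apply h
  rw [show Θ = c • (X : Set G).indicator (irrOne G : G → ℂ) from funext fun g => by
    by_cases m : g ∈ X
    · simp [m, h1 g m]
    · simp [m, h0 g m], classInner_smul_left, this, mul_zero]

theorem exists_tri (P : Sylow 3 G) {K : Subgroup G} (i : K.relIndex P = 3)
    (cl : ∀ y ∈ K, ∀ g, g * y * g⁻¹ ∈ (P : Subgroup G) → g * y * g⁻¹ ∈ K)
    (hb : 3 * #(XX K) < 2 * Nat.card G) : ∃ χ φ a b, Tri M (XX K) χ φ a b := by
  classical
  have := Fintype.ofFinite P
  let Θ : G → ℂ := fun g => if g ∈ XX K then 3 else 0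
  have n : (K.subgroupOf P).Normal := ⟨fun y m g => cl y m g (g * y * g⁻¹).2⟩
  have pp : ∀ x ∈ (P : Subgroup G), pPart 3 x = x := fun x m =>
    pPart_of_pElt Nat.prime_three (pElt_of_mem Nat.prime_three P.isPGroup' m)
  have gd : ∀ g k, k * pPart 3 g * k⁻¹ ∈ (P : Subgroup G) → (g ∈ XX K ↔ k * pPart 3 g * k⁻¹ ∉ K) := fun g k m =>
    ⟨fun h => mem_XX.1 h k, fun h => mem_XX.2 fun l o => h (by
      simpa [mul_assoc] using cl _ o (k * l⁻¹) (by simpa [mul_assoc] using m))⟩
  have cj : ∀ g x : G, IsConj (pPart 3 g) (pPart 3 (x * g * x⁻¹)) := fun g x =>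
    isConj_iff.2 ⟨x, (pPart_conj 3 g x).symm⟩
  have c : IsClassFunction G Θ := fun g x => if_congr ⟨XX_congr (cj g x).symm, XX_congr (cj g x)⟩ rfl rfl
  have h : IsGeneralizedCharacter G Θ := isGen_lift P ((isGeneralizedCharacter_one.natCast_smul 3).sub
    (isGeneralizedCharacter_indFun (K.subgroupOf P) isGeneralizedCharacter_one)) c fun g k m => by
      simp only [Θ, gd g k m, Pi.sub_apply, Pi.smul_apply]
      by_cases a : k * pPart 3 g * k⁻¹ ∈ K
      · rw [indFun_normal_apply_of_invariant (K.subgroupOf P) (fun _ => (1 : ℂ)) (fun _ _ => rfl) ⟨⟨_, m⟩, a⟩,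
          show (K.subgroupOf P).index = 3 from i]
        simp [a]
      · rw [indFun_normal_of_not_mem (K.subgroupOf P) _ (g := ⟨_, m⟩) a]; simp [a]
  have o1 : (1 : G) ∉ XX K := not_mem_XX (by simp)
  have h1 : Θ 1 = 0 := if_neg o1
  obtain ⟨u, a, b⟩ := SetLike.not_le_iff_exists.1 fun l : (P : Subgroup G) ≤ K => by
    rw [relIndex_eq_one.2 l] at i; omega
  have hu : u ∈ XX K := (gd u 1 (by simpa [pp u a])).2 (by simpa [pp u a])
  obtain ⟨k, ho⟩ := h.exists_inner_eq_int isGeneralizedCharacter_one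
  have sum : ∑ g, Θ g = 3 * #(XX K) := by simp [Θ, mul_comm]
  have h3 : classInner Θ Θ = 3 * k := by
    rw [← ho, classInner_def, classInner_one_right, Finset.sum_congr rfl fun g _ =>
      show Θ g * conj (Θ g) = 3 * Θ g by simp only [Θ]; split_ifs <;> simp [map_ofNat], ← Finset.mul_sum]
    ring
  have e : (3 * #(XX K) : ℤ) = k * Nat.card G := by
    rw [classInner_one_right, sum, inv_mul_eq_iff_eq_mul₀ (card_ne_zero_complex G), mul_comm _ (k : ℂ)] at ho
    exact_mod_cast ho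
  have l1 : 0 < #(XX K) := card_pos.2 ⟨u, hu⟩
  have l2 : 0 < Nat.card G := Nat.card_pos
  have k0 : 0 < k := by nlinarith
  have k3 : k < 2 := by nlinarith
  obtain rfl : k = 1 := by omega
  obtain ⟨φ, χ, ε, n2, n1, n3, hε, a1, a2, a3, a4, hf⟩ := exists_eq_of_norm_three h (by simpa using h3) h1 (by simpa using ho)
  have hΘ : ∀ g, Θ g = 1 - (φ : G → ℂ) g + ε * (χ : G → ℂ) g := fun g => by
    rw [apply_eq_sum_mlt h, hf fun ξ => (ξ : G → ℂ) g]; simp
  obtain rfl : ε = 1 := hε.resolve_right fun e => by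
    have := hΘ 1
    rw [h1, e, φ.2.apply_one_eq, χ.2.apply_one_eq] at this
    have e1 : (0 : ℤ) = 1 - charDegree (φ : G → ℂ) + -1 * charDegree (χ : G → ℂ) := by exact_mod_cast this
    have := degree_pos_int φ
    have := degree_pos_int χ
    omega
  have gal : ∀ (σ : ℂ ≃+* ℂ) g, σ ((φ : G → ℂ) g) = (φ : G → ℂ) g := fun σ g => by
    let ξ : IrrCharacter G := ⟨_, φ.2.map_ringEquiv σ⟩
    have e1 : mlt Θ ξ = -1 := mlt_eq_of_inner (by
      rw [← a2, mlt_cast h, ← h.inner_map_ringHom φ.2.isGeneralizedCharacter σ.toRingHom]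
      congr 1
      funext g
      simp only [Θ]
      split_ifs <;> simp [map_ofNat])
    have : ξ = φ := by_contra fun e2 => by
      have := a4 ξ (fun e => by rw [e] at e1; omega) e2 fun e => by rw [e] at e1; omega
      omega
    exact congrFun (congrArg Subtype.val this) g
  choose b eb using fun g => exists_int_of_forall_ringEquiv (φ.2.isIntegral g) (gal · g)
  have mem : ∀ ξ, mlt Θ ξ ≠ 0 → ξ ∈ principalBlock M G := fun ξ m =>
    mem_principal_of_inner (X := XX K) (fun _ _ => XX_congr) (fun _ m => if_pos m) (fun _ m => if_neg m) ((mlt_ne_zero_iff h).1 m)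
  refine ⟨χ, φ, fun g => (if g ∈ XX K then 3 else 0) - 1 + b g, b, fun g => ?_, eb, n1, n2, mem χ (by omega),
    mem φ (by omega), fun g m => by simp only [m, if_true]; ring, fun g m => by simp only [m, if_false]; ring, o1, by exact_mod_cast e.trans (one_mul _)⟩
  have := hΘ g
  rw [eb] at this
  simp only [Θ] at this
  push_cast at this ⊢
  linear_combination -this

end Cfsg.Lib.N9
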