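import Cfsg.Agent.Lib.N9.B
import Cfsg.Agent.Lib.N9.Ar
import Cfsg.Agent.Lib.Char.Product

/-! Values and degrees of the characters `χ`, `φ`. -/

set_option autoImplicit false

namespace Cfsg.Lib.N9

open Cfsg Subgroup Cfsg.Lib.Char Cfsg.Lib.Modular Cfsg.Lib.OddChar Cfsg.Lib.Block Finset
open scoped ComplexConjugate

variable {G : Type*} [Group G] [Fintype G]

theorem abs_lt_deg [IsSimpleGroup G] (hG : ¬ IsMulCommutative G) {ξ : IrrCharacter G} (h : ξ ≠ irrOne G) {g : G}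
    (g1 : g ≠ 1) {m : ℤ} (e : (ξ : G → ℂ) g = m) : |m| < charDegree (ξ : G → ℂ) := by
  have k := ξ.2.charKer_eq_bot_of_isSimpleGroup fun e => h (Subtype.ext e)
  have l := ξ.2.isCharacter.norm_le g
  have n : ‖(ξ : G → ℂ) g‖ ≠ ‖(ξ : G → ℂ) 1‖ := fun e => by
    have := ξ.2.isCharacter.charCenter_le_center k (ξ.2.isCharacter.mem_charCenter_iff.2 e)
    rcases (inferInstance : (center G).Normal).eq_bot_or_eq_top with c | c
    · exact g1 (by rwa [c] at this)
    · exact hG ⟨⟨fun a b => (mem_center_iff.1 (c ▸ mem_top b) a)⟩⟩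
  rw [ξ.2.isCharacter.norm_apply_one, e, Complex.norm_intCast] at l n
  exact_mod_cast lt_of_le_of_ne l n

theorem two_le_deg [IsSimpleGroup G] (hG : ¬ IsMulCommutative G) {ξ : IrrCharacter G} (h : ξ ≠ irrOne G) :
    2 ≤ charDegree (ξ : G → ℂ) := by
  by_contra l
  have := ξ.2.charDegree_pos
  have e := ξ.2.isCharacter.charDegree_eq_one_iff.1 (by omega)
  have k := ξ.2.charKer_eq_bot_of_isSimpleGroup fun e => h (Subtype.ext e)
  refine hG ⟨⟨fun a b => ?_⟩⟩
  have := ξ.2.isCharacter.mem_charKer_iff.2 (ξ.2.isCharacter.apply_commutator_of_apply_one e a b)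
  rw [k, mem_bot] at this
  rwa [mul_inv_eq_one, mul_inv_eq_iff_eq_mul] at this

variable (M : Ideal AlgInt) in
open Classical in
/-- the column norm of the principal block -/
noncomputable def lam (g : G) : ℝ := ∑ χ with χ ∈ principalBlock M G, ‖(χ : G → ℂ) g‖ ^ 2

variable {M : Ideal AlgInt} [hM : Modular 3 M] {X X' : Finset G} {χ φ χ' φ' : IrrCharacter G} {a b a' b' : G → ℤ}
  {w g : G}

omit hM in
theorem sum_le_lam (T : Finset (IrrCharacter G)) (hT : ∀ χ ∈ T, χ ∈ principalBlock M G) (g : G) :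
    ∑ χ ∈ T, ‖(χ : G → ℂ) g‖ ^ 2 ≤ lam M g :=
  sum_le_sum_of_subset_of_nonneg (fun χ m => by simpa using hT χ m) fun _ _ _ => sq_nonneg _

structure Nc (w : G) : Prop where
  pe : ∃ k, orderOf w = 3 ^ k
  ne : w ≠ 1
  npc : HasNormalPComplement 3 (centralizer ({w} : Set G))
  fac : (Nat.card (centralizer ({w} : Set G))).factorization 3 = 2
  idx : ¬ 3 ∣ (centralizer ({w} : Set G)).index

theorem Nc.lam (n : Nc w) : lam M w = 9 := by
  have := sum_principal_norm_sq hM.out n.pe n.ne n.npc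
  rw [n.fac] at this
  rw [N9.lam]
  convert this
  norm_num

theorem Nc.const (n : Nc w) (m : χ ∈ principalBlock M G) (h : g ∈ sec w) : (χ : G → ℂ) g = (χ : G → ℂ) w :=
  principal_apply_of_isConj_pPart hM.out n.pe n.npc m (mem_sec.1 h)

theorem Nc.card (n : Nc w) : 9 * #(sec w) = Nat.card G := card_sec n.pe n.npc n.fac

theorem Nc.self (n : Nc w) : w ∈ sec w := self_mem_sec n.pe

namespace Tri
variable (h : Tri M X χ φ a b)
include h

omit hM in
theorem b1 : b 1 = a 1 + 1 := by have := h.out 1 h.one; omega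

omit hM in
theorem da : a 1 = charDegree (χ : G → ℂ) := by
  have := h.ea 1
  rw [χ.2.apply_one_eq] at this
  exact_mod_cast this.symm

omit hM in
theorem db : b 1 = charDegree (φ : G → ℂ) := by
  have := h.eb 1
  rw [φ.2.apply_one_eq] at this
  exact_mod_cast this.symm

omit hM in
theorem ne : χ ≠ φ := fun e => by
  have := h.b1
  rw [h.da, h.db, e] at this
  omega

theorem sq_le (g : G) : ((1 + a g ^ 2 + b g ^ 2 : ℤ) : ℝ) ≤ lam M g := by
  classical
  have := sum_le_lam (M := M) {irrOne G, χ, φ} (by simp [h.m1, h.m2, Block.irrOne_mem_principalBlock]) g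
  rw [sum_insert (by simp [h.n1.symm, h.n2.symm]), sum_pair h.ne, h.ea, h.eb] at this
  simpa [add_assoc] using this

omit hM in
theorem ca {p k : ℕ} [Fact p.Prime] (e : g ^ p ^ k = 1) : (p : ℤ) ∣ a 1 - a g :=
  Clifford.int_dvd_sub_of_pow_eq_one χ.2.isGeneralizedCharacter e (h.ea g) (h.ea 1)

theorem val (n : Nc w) (m : w ∈ X) : a w = 1 ∧ b w = -1 := by
  have h1 := h.sq_le w
  rw [n.lam] at h1
  have h1 : 1 + a w ^ 2 + b w ^ 2 ≤ 9 := by exact_mod_cast h1
  have h2 := h.inn w m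
  have h3 : a w ≠ 0 := fun e => apply_ne_zero_of_mem_principalBlock h.m1 n.idx (by rw [h.ea, e]; simp)
  have h4 : b w ≠ 0 := fun e => apply_ne_zero_of_mem_principalBlock h.m2 n.idx (by rw [h.eb, e]; simp)
  have h5 : a w < 3 := by nlinarith
  have h6 : -3 < b w := by nlinarith
  omega

theorem mod3 (n : Nc w) (m : w ∈ X) (e : ∃ k, orderOf g = 3 ^ k) : 3 ∣ a g - 1 := by
  obtain ⟨k, hk⟩ := (pElt_iff_pow Nat.prime_three).1 n.pe
  obtain ⟨l, hl⟩ := (pElt_iff_pow Nat.prime_three).1 e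
  have h1 := h.ca hk
  have h2 := h.ca hl
  have := (h.val n m).1
  omega

variable [IsSimpleGroup G] (hG : ¬ IsMulCommutative G) {q i j : ℕ} (hq : q.Prime) (h2 : q ≠ 2) (h3 : q ≠ 3)
  (hc : Nat.card G = 9 * 2 ^ i * q ^ j)
include hG hq h2 h3 hc

theorem deg (n : Nc w) (m : w ∈ X) : j = 1 ∧ (a 1 = q ∨ a 1 + 1 = q) ∧ ∃ k, a 1 = 2 ^ k ∨ a 1 + 1 = 2 ^ k := by
  have := Fact.mk hq
  have e0 := h.mod3 n m pElt_one
  have e1 := h.da
  have e2 : charDegree (φ : G → ℂ) = charDegree (χ : G → ℂ) + 1 := by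
    have := h.b1
    rw [h.da, h.db] at this
    exact_mod_cast this
  have d1 := dvd_of_not_three (hc ▸ χ.2.charDegree_dvd_card) (by omega)
  have d2 := dvd_of_not_three (hc ▸ φ.2.charDegree_dvd_card) (by omega)
  rw [e2] at d2
  obtain ⟨c1, k, c2⟩ := consec hq h2 h3 (two_le_deg hG h.n1) d1 d2
  refine ⟨?_, by omega, k, by rw [e1]; exact_mod_cast c2⟩
  obtain ⟨Q⟩ : Nonempty (Sylow q G) := inferInstance
  have c3 := int_dvd_charDegree_sub_of_const χ.2.isCharacter Q (c := a 1 - q) fun g m g1 => by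
    obtain ⟨k, hk⟩ := (pElt_iff_pow hq).1 (pElt_of_mem hq Q.isPGroup' m)
    obtain ⟨c, hc⟩ := h.ca hk
    have l := abs_lt.1 (abs_lt_deg hG h.n1 g1 (h.ea g))
    have q0 : (0 : ℤ) < q := by exact_mod_cast hq.pos
    have c0 : 0 < c := by nlinarith
    have c1 : c < 2 := by rcases c1 with c1 | c1 <;> nlinarith
    obtain rfl : c = 1 := by omega
    rw [h.ea]
    congr 1
    omega
  rw [← e1, sub_sub_cancel, Q.card_eq_multiplicity, hc] at c3
  have f : (9 * 2 ^ i * q ^ j).factorization q = j := by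
    rw [Nat.factorization_mul (by positivity) (pow_pos hq.pos j).ne', Finsupp.add_apply, hq.factorization_pow,
      Nat.factorization_eq_zero_of_not_dvd fun d => ?_]
    · simp
    · rcases (Nat.Prime.dvd_mul hq).1 d with d | d
      · exact h3 ((Nat.prime_dvd_prime_iff_eq hq Nat.prime_three).1 (hq.dvd_of_dvd_pow (n := 2) d))
      · exact h2 ((Nat.prime_dvd_prime_iff_eq hq Nat.prime_two).1 (hq.dvd_of_dvd_pow d))
  rw [f] at c3
  have c4 : q ^ j ∣ q ^ 1 := by rw [pow_one]; exact_mod_cast c3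
  have c5 := (Nat.pow_dvd_pow_iff_le_right hq.one_lt).1 c4
  have c6 : j ≠ 0 := by
    rintro rfl
    rw [pow_zero, mul_one] at d1 d2
    refine h2 ((Nat.prime_dvd_prime_iff_eq hq Nat.prime_two).1 (hq.dvd_of_dvd_pow (n := i) ?_))
    rcases c1 with c1 | c1
    · exact c1 ▸ d1
    · exact c1 ▸ d2
  omega

end Tri

end Cfsg.Lib.N9
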