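import Cfsg.Agent.Lib.N9.C
import Cfsg.Agent.Lib.Coprime.Constraint
import Cfsg.Agent.S4735

/-! Column norms on the section of an element with a solvable centralizer. -/

set_option autoImplicit false

namespace Cfsg.Lib.N9

open Cfsg Subgroup Cfsg.Lib.Char Cfsg.Lib.Modular Cfsg.Lib.OddChar Cfsg.Lib.Block Finset

theorem loc_bound {H : Type*} [Group H] [Finite H] (hs : Group.IsSolvable H) (S : Sylow 3 H) (c : Nat.card S = 9)
    (h2 : ∀ m ∈ normalizer ((S : Subgroup H) : Set H), ∀ n ∈ normalizer ((S : Subgroup H) : Set H),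
      m ∉ centralizer ((S : Subgroup H) : Set H) → n ∉ centralizer ((S : Subgroup H) : Set H) →
        m * n ∈ centralizer ((S : Subgroup H) : Set H)) :
    Nat.card (H ⧸ pPrimeCore 3 H) ≤ 18 ∧ ∀ v : H, ¬ 3 ∣ orderOf v → v ∉ pPrimeCore 3 H →
      Nat.card (centralizer ({(v : H ⧸ pPrimeCore 3 H)} : Set (H ⧸ pPrimeCore 3 H))) ≤ 6 := by
  have ab : IsMulCommutative S := IsPGroup.isMulCommutative_of_card_eq_prime_sq (p := 3) c
  have cT := Coprime.centralizer_pCore_quotient_le (p := 3) hs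
  set f := QuotientGroup.mk' (pPrimeCore 3 H)
  set T := pCore 3 (H ⧸ pPrimeCore 3 H)
  have l1 : T ≤ (S : Subgroup H).map f := Core.pCore_le_sylow (S.mapSurjective (QuotientGroup.mk'_surjective _))
  have cc : ∀ n ∈ centralizer ((S : Subgroup H) : Set H), f n ∈ T := fun n m => cT fun y hy => by
    obtain ⟨z, hz, rfl⟩ := l1 hy
    rw [← map_mul, m z hz, map_mul]
  have e : (S : Subgroup H).map f = T := le_antisymm (map_le_iff_le_comap.2 fun n m => cc n (le_centralizer _ m)) l1
  have nz := Coprime.normalizer_map_mk' (A := S) (N := pPrimeCore 3 H) (by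
    rw [c]; exact Nat.Coprime.pow_left 2 ((Nat.Prime.coprime_iff_not_dvd Nat.prime_three).2
      (Core.not_dvd_card_pPrimeCore 3 H))) (.inl inferInstance)
  rw [e, normalizer_eq_top] at nz
  have i2 : T.index ∣ 2 := by
    by_cases t : T = ⊤
    · rw [t, index_top]; exact one_dvd _
    obtain ⟨a, -, ha⟩ := SetLike.not_le_iff_exists.1 fun l => t (top_le_iff.1 l)
    refine index_dvd_two_iff.2 ⟨a, fun b => or_iff_not_imp_right.2 fun hb => ?_⟩
    obtain ⟨m, hm, rfl⟩ := nz.le (mem_top a)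
    obtain ⟨n, hn, rfl⟩ := nz.le (mem_top b)
    rw [← map_mul]
    exact cc _ (h2 n hn m hm (fun k => hb (cc n k)) fun k => ha (cc m k))
  have c9 : Nat.card T ∣ 3 ^ 2 := by rw [← e]; exact (card_map_dvd _ f).trans (dvd_of_eq c)
  refine ⟨?_, fun v h3 hv => ?_⟩
  · rw [← T.card_mul_index]
    exact Nat.mul_le_mul (Nat.le_of_dvd (by norm_num) c9) (Nat.le_of_dvd two_pos i2)
  have vT : (v : H ⧸ pPrimeCore 3 H) ∉ T := fun m => hv ((QuotientGroup.eq_one_iff v).1
    (eq_one_of_pElt_of_not_dvd (pElt_of_mem Nat.prime_three (Core.pCore_isPGroup 3 _) m) (not_dvd_orderOf_map f h3)))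
  set C := centralizer ({(v : H ⧸ pPrimeCore 3 H)} : Set (H ⧸ pPrimeCore 3 H))
  have d1 : Nat.card ↥(T ⊓ C) < Nat.card T := by
    refine lt_of_le_of_ne (card_le_of_le inf_le_left) fun e => vT (cT fun y hy => ?_)
    rw [← eq_of_le_of_card_ge inf_le_left e.ge] at hy
    exact mem_centralizer_singleton_iff.1 hy.2
  have d2 : Nat.card ↥(T ⊓ C) ≤ 3 := by
    obtain ⟨i, -, hi⟩ := (Nat.dvd_prime_pow Nat.prime_three).1 ((card_dvd_of_le (inf_le_left : T ⊓ C ≤ T)).trans c9)
    have := d1.trans_le (Nat.le_of_dvd (by norm_num) c9)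
    rw [hi] at this ⊢
    have := (Nat.pow_lt_pow_iff_right (by norm_num)).1 this
    interval_cases i <;> norm_num
  rw [← (T.subgroupOf C).card_mul_index, ← inf_subgroupOf_right,
    Nat.card_congr (subgroupOfEquivOfLe inf_le_right).toEquiv, inf_subgroupOf_right]
  exact Nat.mul_le_mul d2 (Nat.le_of_dvd two_pos ((relIndex_dvd_index_of_normal T C).trans i2))

variable {G : Type*} [Group G] [Fintype G] {M : Ideal AlgInt} [hM : Modular 3 M] {x g : G}

theorem lam_congr (h : IsConj x g) : lam M x = lam M g :=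
  sum_congr rfl fun χ _ => by rw [χ.2.isClassFunction.eq_of_isConj h]

theorem lam_le (hx : ∃ k, orderOf x = 3 ^ k) (x1 : x ≠ 1) (v : centralizer ({x} : Set G)) (hv : ¬ 3 ∣ orderOf v) :
    lam M (x * v) ≤ Nat.card (centralizer ({(v : _ ⧸ pPrimeCore 3 (centralizer ({x} : Set G)))} : Set _)) := by
  have h1 := (Cfsg.Agent.S0947.result 3 M hM.out x hx x1 v hv).1
  have h2 := (Cfsg.Agent.S4735.result 3 M hM.out v).2.2.1
  simp only [Complex.normSq_eq_norm_sq] at h2
  rw [← h1, finsum_mem_irr_eq_sum_filter] at h2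
  rw [lam]
  convert h2

theorem sec_bound (hx : ∃ k, orderOf x = 3 ^ k) (x1 : x ≠ 1) (hs : Group.IsSolvable (centralizer ({x} : Set G)))
    (P : Sylow 3 G) (c : Nat.card P = 9) (l : (P : Subgroup G) ≤ centralizer {x})
    (h2 : ∀ m ∈ normalizer ((P : Subgroup G) : Set G), ∀ n ∈ normalizer ((P : Subgroup G) : Set G),
      m ∈ centralizer ({x} : Set G) → n ∈ centralizer ({x} : Set G) →
      m ∉ centralizer ((P : Subgroup G) : Set G) → n ∉ centralizer ((P : Subgroup G) : Set G) →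
        m * n ∈ centralizer ((P : Subgroup G) : Set G)) :
    lam M x ≤ 18 ∧ ∀ g ∈ sec x, (∀ χ ∈ principalBlock M G, (χ : G → ℂ) g = (χ : G → ℂ) x) ∨ lam M g ≤ 6 := by
  have cz : ∀ n : centralizer ({x} : Set G), n ∈ centralizer ((P.subtype l : Subgroup (centralizer ({x} : Set G))) : Set (centralizer ({x} : Set G))) ↔
      (n : G) ∈ centralizer ((P : Subgroup G) : Set G) := fun n =>
    ⟨fun h y m => congrArg Subtype.val (h ⟨y, l m⟩ m), fun h y m => Subtype.ext (h y (mem_subgroupOf.1 m))⟩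
  have nz : ∀ n : centralizer ({x} : Set G), n ∈ normalizer ((P.subtype l : Subgroup (centralizer ({x} : Set G))) : Set (centralizer ({x} : Set G))) →
      (n : G) ∈ normalizer ((P : Subgroup G) : Set G) := fun n h => by
    rw [Sylow.coe_subtype, ← subgroupOf_normalizer_eq l] at h
    exact h
  obtain ⟨b1, b2⟩ := loc_bound hs (P.subtype l) ((Nat.card_congr (subgroupOfEquivOfLe l).toEquiv).trans c)
    fun m hm n hn h1 h2' => (cz _).2 (h2 m (nz m hm) n (nz n hn) m.2 n.2 (mt (cz _).2 h1) (mt (cz _).2 h2'))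
  refine ⟨?_, fun g m => ?_⟩
  · have := lam_le (M := M) hx x1 1 (by simp)
    rw [Subgroup.coe_one, mul_one] at this
    exact this.trans (by exact_mod_cast (card_le_card_group _).trans b1)
  obtain ⟨v, hv, hc⟩ := exists_isConj_mul_of_isConj_pPart Nat.prime_three (mem_sec.1 m)
  by_cases o : v ∈ pPrimeCore 3 (centralizer ({x} : Set G))
  · exact .inl fun χ k => by
      rw [← χ.2.isClassFunction.eq_of_isConj hc, Cfsg.Agent.S0942.result 3 M hM.out x hx v ⟨v, o, rfl⟩ χ k]
  · exact .inr (lam_congr (M := M) hc ▸ (lam_le hx x1 v hv).trans (by exact_mod_cast b2 v hv o))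

end Cfsg.Lib.N9
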