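import Cfsg.Agent.Lib.N9.C

/-! Two virtual characters of norm three meeting in a single section. -/

set_option autoImplicit false

namespace Cfsg.Lib.N9

open Cfsg Subgroup Cfsg.Lib.Char Cfsg.Lib.Modular Cfsg.Lib.OddChar Cfsg.Lib.Block Finset
open scoped ComplexConjugate

section Int
variable {ι : Type*} [Fintype ι]

theorem two_terms {c : ι → ℤ} (h : ∑ i, c i ^ 2 = 2) {i : ι} (hi : c i ≠ 0) (d : ι → ℤ) :
    ∃ j, (c i = 1 ∨ c i = -1) ∧ (c j = 1 ∨ c j = -1) ∧ ∑ k, c k * d k = c i * d i + c j * d j := by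
  classical
  have h1 := sum_sq_le_sum_sq (c := c) {i}
  rw [sum_singleton, h] at h1
  have a1 : c i = 1 ∨ c i = -1 := by
    have : -2 < c i := by nlinarith
    have : c i < 2 := by nlinarith
    omega
  have a2 : c i ^ 2 = 1 := by rcases a1 with e | e <;> rw [e] <;> norm_num
  obtain ⟨j, hj, hj0⟩ : ∃ j, j ≠ i ∧ c j ≠ 0 := by
    by_contra hh
    push Not at hh
    rw [sum_eq_single i (fun j _ e => by rw [hh j e]; norm_num) (by simp), a2] at h
    norm_num at h
  have h2 := sum_sq_le_sum_sq (c := c) {j, i}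
  rw [sum_pair hj, h, a2] at h2
  have a3 : c j = 1 ∨ c j = -1 := by
    have : -2 < c j := by nlinarith
    have : c j < 2 := by nlinarith
    omega
  refine ⟨j, a1, a3, ?_⟩
  rw [← sum_subset (subset_univ {j, i}), sum_pair hj, add_comm]
  intro k _ hk
  rw [eq_zero_of_sum_sq_le (c := c) {j, i} (by rw [sum_pair hj, h, a2]; rcases a3 with e | e <;> rw [e] <;> norm_num) hk, zero_mul]

theorem abs_le_one {c d : ι → ℤ} (h : ∑ i, c i ^ 2 = 4) (h1 : ∑ i, c i * d i = 1) (i : ι) : -1 ≤ c i ∧ c i ≤ 1 := by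
  classical
  by_contra n
  have h2 := sum_sq_le_sum_sq (c := c) {i}
  rw [sum_singleton, h] at h2
  have : -3 < c i := by nlinarith
  have : c i < 3 := by nlinarith
  have e : c i = 2 ∨ c i = -2 := by omega
  rw [sum_eq_single i (fun j _ k => by
    rw [eq_zero_of_sum_sq_le (c := c) (k := j) {i} (by rw [sum_singleton, h]; rcases e with e | e <;> rw [e] <;> norm_num)
      (by simpa using k), zero_mul]) (by simp)] at h1
  rcases e with e | e <;> rw [e] at h1 <;> omega

theorem eq_neg_of {c β : ι → ℤ} (h : ∀ i, -1 ≤ c i ∧ c i ≤ 1) (h2 : ∑ i, β i ^ 2 = 2) (h3 : ∑ i, c i * β i = -2) (i : ι) :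
    β i = 0 ∨ c i = -β i := by
  have := (sum_eq_zero_iff_of_nonneg (s := univ) (f := fun i => β i ^ 2 + c i * β i) fun j _ => by
    rcases lt_trichotomy (β j) 0 with l | l | l
    · nlinarith [h j]
    · simp [l]
    · nlinarith [h j]).1 (by rw [sum_add_distrib, h2, h3]; norm_num) i (mem_univ _)
  rcases mul_eq_zero.1 (show β i * (β i + c i) = 0 by linear_combination this) with e | e
  · exact .inl e
  · exact .inr (by omega)

theorem int_core {c β γ d : ι → ℤ} {N : ℤ} (h1 : ∑ i, c i ^ 2 = 4) (h2 : ∑ i, β i ^ 2 = 2) (h3 : ∑ i, γ i ^ 2 = 2)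
    (h4 : ∑ i, c i * β i = -2) (h5 : ∑ i, c i * γ i = -2) (h6 : ∑ i, β i * γ i = 1) (d1 : ∑ i, c i * d i = 1)
    (d2 : ∑ i, β i * d i = -N) (d3 : ∑ i, γ i * d i = -N) : ∃ i j k e, c i ≠ 0 ∧ c j ≠ 0 ∧ c k ≠ 0 ∧
      (e = d i ∨ e = -d i) ∧ (-N - e = d j ∨ -N - e = -d j) ∧ (1 - 2 * N - e = d k ∨ 1 - 2 * N - e = -d k) := by
  have b := abs_le_one h1 d1
  have e1 := eq_neg_of b h2 h4
  have e2 := eq_neg_of b h3 h5
  obtain ⟨i, -, hi⟩ := exists_ne_zero_of_sum_ne_zero (h6.trans_ne one_ne_zero)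
  have i1 := left_ne_zero_of_mul hi
  have i2 := right_ne_zero_of_mul hi
  obtain ⟨j, a1, a2, a3⟩ := two_terms h2 i1 d
  obtain ⟨k, -, a4, a5⟩ := two_terms (c := fun i => c i + β i + γ i) (i := i) (by
    rw [sum_congr rfl fun i _ => show (c i + β i + γ i) ^ 2 = c i ^ 2 + β i ^ 2 + γ i ^ 2 + 2 * (c i * β i) +
      2 * (c i * γ i) + 2 * (β i * γ i) by ring]
    simp only [sum_add_distrib, ← mul_sum, h1, h2, h3, h4, h5, h6]
    norm_num) (by have := e1 i; have := e2 i; omega) d
  simp only [add_mul, sum_add_distrib, d1, d2, d3] at a4 a5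
  have f1 := (e1 i).resolve_left i1
  have f2 := (e2 i).resolve_left i2
  rw [show γ i = β i by omega, f1] at a5
  refine ⟨i, j, k, β i * d i, by omega, by have := e1 j; omega, by have := e1 k; have := e2 k; omega, ?_, ?_, ?_⟩
  · rcases a1 with e | e <;> simp [e]
  · rw [d2] at a3
    rcases a2 with e | e <;> rw [e] at a3 <;> omega
  · rcases a4 with e | e
    · exact .inl (by linear_combination a5 + d k * e)
    · exact .inr (by linear_combination a5 + d k * e)

end Int

variable {G : Type*} [Group G] [Fintype G] {f k : G → ℤ} {ξ η : IrrCharacter G}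

/-- an integer valued function as a complex valued one -/
def cst (f : G → ℤ) : G → ℂ := fun g => f g

theorem inner_cst (f k : G → ℤ) : classInner (cst f) (cst k) = (Nat.card G : ℂ)⁻¹ * (∑ g, f g * k g : ℤ) := by
  simp [classInner_def, cst]

theorem inner_cst_eq {n : ℤ} (h : ∑ g, f g * k g = n * Nat.card G) : classInner (cst f) (cst k) = n := by
  rw [inner_cst, h]
  have := card_ne_zero_complex G
  push_cast
  field_simp

theorem sum_of_inner {n : ℤ} (h : classInner (cst f) (cst k) = n) : ∑ g, f g * k g = n * Nat.card G := by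
  rw [inner_cst, inv_mul_eq_iff_eq_mul₀ (card_ne_zero_complex G), mul_comm] at h
  exact_mod_cast h

theorem sum_self (h : ∀ g, (ξ : G → ℂ) g = f g) : ∑ g, f g * f g = Nat.card G :=
  (sum_of_inner (n := 1) (by rw [← show (ξ : G → ℂ) = cst f from funext h, ξ.2.inner_self]; simp)).trans (one_mul _)

theorem sum_ne (h : ∀ g, (ξ : G → ℂ) g = f g) (h' : ∀ g, (η : G → ℂ) g = k g) (n : ξ ≠ η) : ∑ g, f g * k g = 0 :=
  (sum_of_inner (n := 0) (by
    rw [← show (ξ : G → ℂ) = cst f from funext h, ← show (η : G → ℂ) = cst k from funext h',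
      ξ.2.inner_eq_zero_of_ne η.2 fun e => n (Subtype.ext e)]; simp)).trans (zero_mul _)

theorem sum_ne_one (h : ∀ g, (ξ : G → ℂ) g = f g) (n : ξ ≠ irrOne G) : ∑ g, f g = 0 := by
  simpa using sum_ne (k := fun _ => 1) h (fun _ => by simp) n

theorem gen_cst (h : ∀ g, (ξ : G → ℂ) g = f g) : IsGeneralizedCharacter G (cst f) :=
  (show (ξ : G → ℂ) = cst f from funext h) ▸ ξ.2.isGeneralizedCharacter

omit [Fintype G] in
theorem gen_add (h : IsGeneralizedCharacter G (cst f)) (h' : IsGeneralizedCharacter G (cst k)) :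
    IsGeneralizedCharacter G (cst fun g => f g + k g) := by convert h.add h' using 1; funext g; simp [cst]

omit [Fintype G] in
theorem gen_sub (h : IsGeneralizedCharacter G (cst f)) (h' : IsGeneralizedCharacter G (cst k)) :
    IsGeneralizedCharacter G (cst fun g => f g - k g) := by convert h.sub h' using 1; funext g; simp [cst]

omit [Fintype G] in
theorem gen_mul (h : IsGeneralizedCharacter G (cst f)) (h' : IsGeneralizedCharacter G (cst k)) :
    IsGeneralizedCharacter G (cst fun g => f g * k g) := by convert h.mul h' using 1; funext g; simp [cst]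

omit [Fintype G] in
theorem gen_one : IsGeneralizedCharacter G (cst fun _ => 1) := by
  convert isGeneralizedCharacter_one (G := G) using 1; funext g; simp [cst]

theorem mlt_cst {n : ℤ} (h : ∀ g, (ξ : G → ℂ) g = k g) (e : ∑ g, f g * k g = n * Nat.card G) : mlt (cst f) ξ = n :=
  mlt_eq_of_inner (by rw [show (ξ : G → ℂ) = cst k from funext h]; exact inner_cst_eq e)

theorem sum_eq_mlt (hf : IsGeneralizedCharacter G (cst f)) (h : ∀ g, (ξ : G → ℂ) g = k g) :
    ∑ g, f g * k g = mlt (cst f) ξ * Nat.card G :=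
  sum_of_inner (by rw [mlt_cast hf, show (ξ : G → ℂ) = cst k from funext h])

end Cfsg.Lib.N9
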