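import Cfsg.Agent.Lib.N9.E

/-! Two virtual characters of norm three meeting in a single section, II. -/

set_option autoImplicit false

namespace Cfsg.Lib.N9

open Cfsg Subgroup Cfsg.Lib.Char Cfsg.Lib.Modular Cfsg.Lib.OddChar Cfsg.Lib.Block Finset
open scoped ComplexConjugate

variable {G : Type*} [Group G] [Fintype G] {M : Ideal AlgInt} [hM : Modular 3 M] {X X' : Finset G}
  {χ φ χ' φ' ψ : IrrCharacter G} {a b a' b' : G → ℤ} {w g : G}

omit hM in
theorem Tri.sq (h : Tri M X χ φ a b) (g : G) : (1 + a g - b g) * (1 + a g - b g) = 3 * (1 + a g - b g) := by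
  by_cases m : g ∈ X
  · rw [h.inn g m]
  · rw [h.out g m]; rfl

omit hM in
theorem Tri.gen (h : Tri M X χ φ a b) : IsGeneralizedCharacter G (cst fun g => 1 + a g - b g) :=
  gen_sub (gen_add gen_one (gen_cst h.ea)) (gen_cst h.eb)

omit hM in
theorem Tri.sum (h : Tri M X χ φ a b) : ∑ g, (1 + a g - b g) = Nat.card G := by
  simp [sum_add_distrib, sum_sub_distrib, sum_ne_one h.ea h.n1, sum_ne_one h.eb h.n2]

structure Two (M : Ideal AlgInt) (X X' : Finset G) (χ φ χ' φ' : IrrCharacter G) (a b a' b' : G → ℤ) (w : G) : Prop where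
  t : Tri M X χ φ a b
  t' : Tri M X' χ' φ' a' b'
  n : Nc w
  W : ∀ g, g ∈ X ∧ g ∈ X' ↔ g ∈ sec w
  e : a 1 = a' 1

namespace Two
variable (h : Two M X X' χ φ χ' φ' a b a' b' w)
include h

omit hM in
theorem symm : Two M X' X χ' φ' χ φ a' b' a b w := ⟨h.t', h.t, h.n, fun g => and_comm.trans (h.W g), h.e.symm⟩

omit hM in
open Classical in
theorem u (g : G) : (1 + a g - b g) * (1 + a' g - b' g) = if g ∈ sec w then 9 else 0 := by
  split_ifs with m
  · rw [h.t.inn g ((h.W g).2 m).1, h.t'.inn g ((h.W g).2 m).2]; rfl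
  · by_cases k : g ∈ X
    · rw [h.t'.out g fun l => m ((h.W g).1 ⟨k, l⟩), mul_zero]
    · rw [h.t.out g k, zero_mul]

omit hM in
theorem su : ∑ g, (1 + a g - b g) * (1 + a' g - b' g) = Nat.card G := by
  classical
  simp only [h.u, sum_ite_mem, univ_inter, sum_const, ← h.n.card]
  simp [mul_comm]

theorem ua (g : G) : (1 + a g - b g) * (1 + a' g - b' g) * (a g - 1) = 0 ∧
    (1 + a g - b g) * (1 + a' g - b' g) * (b g + 1) = 0 := by
  rw [h.u]
  split_ifs with m
  · have v := h.t.val h.n ((h.W w).2 h.n.self).1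
    have e1 := h.n.const h.t.m1 m
    have e2 := h.n.const h.t.m2 m
    rw [h.t.ea, h.t.ea, v.1, Int.cast_inj] at e1
    rw [h.t.eb, h.t.eb, v.2, Int.cast_inj] at e2
    simp [e1, e2]
  · simp

omit hM in
theorem n12 : χ ≠ φ' := fun e => by
  have := h.t'.b1
  rw [← h.e, h.t.da, h.t'.db, e] at this
  omega

omit hM in
theorem n11 : χ ≠ χ' ∧ φ ≠ φ' := by
  have := h.su
  rw [sum_congr rfl fun g _ => show (1 + a g - b g) * (1 + a' g - b' g) = 1 + a g - b g + a' g - b' g +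
    a g * a' g + b g * b' g - a g * b' g - a' g * b g by ring] at this
  simp only [sum_add_distrib, sum_sub_distrib, sum_ne_one h.t.ea h.t.n1, sum_ne_one h.t.eb h.t.n2,
    sum_ne_one h.t'.ea h.t'.n1, sum_ne_one h.t'.eb h.t'.n2, sum_ne h.t.ea h.t'.eb h.n12,
    sum_ne h.t'.ea h.t.eb h.symm.n12, sum_const, card_univ, ← Nat.card_eq_fintype_card] at this
  have p : (0 : ℤ) < Nat.card G := by exact_mod_cast Nat.card_pos
  have k : ∀ {ξ η : IrrCharacter G} {f k : G → ℤ}, (∀ g, (ξ : G → ℂ) g = f g) → (∀ g, (η : G → ℂ) g = k g) →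
      0 ≤ ∑ g, f g * k g ∧ (ξ = η → 0 < ∑ g, f g * k g) := fun {ξ η f k} h1 h2 => by
    by_cases e : ξ = η
    · subst e
      obtain rfl : f = k := funext fun g => by exact_mod_cast (h1 g).symm.trans (h2 g)
      rw [sum_self h1]; exact ⟨p.le, fun _ => p⟩
    · rw [sum_ne h1 h2 e]; exact ⟨le_rfl, fun c => (e c).elim⟩
  have k1 := k h.t.ea h.t'.ea
  have k2 := k h.t.eb h.t'.eb
  simp only [nsmul_eq_mul, mul_one] at this
  exact ⟨fun e => by have := k1.2 e; omega, fun e => by have := k2.2 e; omega⟩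

theorem sq_le (g : G) : ((1 + a g ^ 2 + b g ^ 2 + a' g ^ 2 + b' g ^ 2 : ℤ) : ℝ) ≤ lam M g := by
  classical
  have := sum_le_lam (M := M) {irrOne G, χ, φ, χ', φ'}
    (by simp [h.t.m1, h.t.m2, h.t'.m1, h.t'.m2, Block.irrOne_mem_principalBlock]) g
  rw [sum_insert (by simp [h.t.n1.symm, h.t.n2.symm, h.t'.n1.symm, h.t'.n2.symm]),
    sum_insert (by simp [h.t.ne, h.n11.1, h.n12]), sum_insert (by simp [h.n11.2, h.symm.n12.symm]),
    sum_pair h.t'.ne, h.t.ea, h.t.eb, h.t'.ea, h.t'.eb] at this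
  simpa [add_assoc] using this

theorem sB (l : ∀ g ∈ X, b' g ^ 2 ≤ 1) : ∑ g, (1 + a g - b g) * b' g * b' g = Nat.card G := by
  have e := sum_eq_mlt (gen_mul h.t.gen (gen_cst h.t'.eb)) h.t'.eb
  have p : (0 : ℤ) < Nat.card G := by exact_mod_cast Nat.card_pos
  have l1 : ∑ g, (1 + a g - b g) * b' g * b' g ≤ Nat.card G := h.t.sum ▸ sum_le_sum fun g _ => by
    by_cases m : g ∈ X
    · rw [h.t.inn g m]; nlinarith [l g m]
    · rw [h.t.out g m]; simp
  have l2 : 0 < ∑ g, (1 + a g - b g) * b' g * b' g := sum_pos' (fun g _ => by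
    by_cases m : g ∈ X
    · rw [h.t.inn g m]; nlinarith [sq_nonneg (b' g)]
    · rw [h.t.out g m]; simp) ⟨w, mem_univ _, by
      rw [h.t.inn w ((h.W w).2 h.n.self).1, (h.t'.val h.n ((h.W w).2 h.n.self).2).2]; norm_num⟩
  rw [e] at l1 l2 ⊢
  have : 0 < mlt (cst fun g => (1 + a g - b g) * b' g) φ' := by nlinarith
  have : mlt (cst fun g => (1 + a g - b g) * b' g) φ' ≤ 1 := by nlinarith
  rw [show mlt (cst fun g => (1 + a g - b g) * b' g) φ' = 1 by omega, one_mul]

/-- the residual part of the section function -/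
def DD (a b a' b' : G → ℤ) (g : G) : ℤ := (1 + a g - b g) * (1 + a' g - b' g) - (1 + a g + a' g - b g - b' g)

/-- the norm two function -/
def BB (a b b' : G → ℤ) (g : G) : ℤ := (1 + a g - b g) * b' g - b' g

omit hM h [Group G] [Fintype G] in
theorem DD_symm : DD a' b' a b = DD a b a' b' := funext fun g => by simp only [DD]; ring

omit hM in
theorem genD : IsGeneralizedCharacter G (cst (DD a b a' b')) :=
  gen_sub (gen_mul h.t.gen h.t'.gen) (gen_sub (gen_sub (gen_add (gen_add gen_one (gen_cst h.t.ea)) (gen_cst h.t'.ea))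
    (gen_cst h.t.eb)) (gen_cst h.t'.eb))

omit hM in
theorem genB : IsGeneralizedCharacter G (cst (BB a b b')) := gen_sub (gen_mul h.t.gen (gen_cst h.t'.eb)) (gen_cst h.t'.eb)

theorem sums : ∑ g, DD a b a' b' g * DD a b a' b' g = 4 * Nat.card G ∧ ∑ g, DD a b a' b' g * BB a b b' g = -2 * Nat.card G ∧
    ∑ g, DD a b a' b' g * 1 = 0 * Nat.card G ∧ ∑ g, DD a b a' b' g * a g = 0 * Nat.card G ∧
      ∑ g, DD a b a' b' g * b g = 0 * Nat.card G := by
  have s1 := sum_ne_one h.t.ea h.t.n1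
  have s2 := sum_ne_one h.t.eb h.t.n2
  have s3 := sum_ne_one h.t'.ea h.t'.n1
  have s4 := sum_ne_one h.t'.eb h.t'.n2
  have s5 := sum_self h.t.ea
  have s6 := sum_self h.t.eb
  have s7 := sum_self h.t'.ea
  have s8 := sum_self h.t'.eb
  have s9 := sum_ne h.t.ea h.t.eb h.t.ne
  have s10 := sum_ne h.t.ea h.t'.ea h.n11.1
  have s11 := sum_ne h.t.ea h.t'.eb h.n12
  have s12 := sum_ne h.t'.ea h.t.eb h.symm.n12
  have s13 := sum_ne h.t.eb h.t'.eb h.n11.2
  have s14 := sum_ne h.t'.ea h.t'.eb h.t'.ne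
  have s15 := h.su
  have s16 : ∑ _g : G, (1 : ℤ) = Nat.card G := by simp
  refine ⟨?_, ?_, ?_, ?_, ?_⟩
  · rw [sum_congr rfl fun g _ => show DD a b a' b' g * DD a b a' b' g =
      1 - (1 + a g - b g) * (1 + a' g - b' g) + a g * a g + b g * b g + a' g * a' g + b' g * b' g + 2 * a g - 2 * b g +
        2 * a' g - 2 * b' g - 2 * (a g * b g) + 2 * (a g * a' g) - 2 * (a g * b' g) - 2 * (a' g * b g) +
          2 * (b g * b' g) - 2 * (a' g * b' g) by
      simp only [DD]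
      linear_combination (1 + a' g - b' g) ^ 2 * h.t.sq g + 3 * (1 + a g - b g) * h.t'.sq g - 2 * (h.ua g).1 +
        2 * (h.ua g).2 - 2 * (h.symm.ua g).1 + 2 * (h.symm.ua g).2]
    simp only [sum_add_distrib, sum_sub_distrib, ← mul_sum, *]
    ring
  · rw [sum_congr rfl fun g _ => show DD a b a' b' g * BB a b b' g =
      a' g * b' g - (1 + a g - b g) * (1 + a' g - b' g) - b' g - a g * b' g + b g * b' g - b' g * b' g by
      simp only [DD, BB]
      linear_combination ((1 + a' g - b' g) * b' g - b' g) * h.t.sq g + (h.symm.ua g).2]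
    simp only [sum_add_distrib, sum_sub_distrib, ← mul_sum, *]
    ring
  · simp only [DD, mul_one, sum_add_distrib, sum_sub_distrib, *]
    ring
  · rw [sum_congr rfl fun g _ => show DD a b a' b' g * a g =
      (1 + a g - b g) * (1 + a' g - b' g) - a g - a g * a g - a g * a' g + a g * b g + a g * b' g by
      simp only [DD]
      linear_combination (h.ua g).1]
    simp only [sum_add_distrib, sum_sub_distrib, *]
    ring
  · rw [sum_congr rfl fun g _ => show DD a b a' b' g * b g =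
      b g * b g - (1 + a g - b g) * (1 + a' g - b' g) - b g - a g * b g - a' g * b g + b g * b' g by
      simp only [DD]
      linear_combination (h.ua g).2]
    simp only [sum_add_distrib, sum_sub_distrib, *]
    ring

theorem sBB (l : ∀ g ∈ X, b' g ^ 2 ≤ 1) : ∑ g, BB a b b' g * BB a b b' g = 2 * Nat.card G := by
  rw [sum_congr rfl fun g _ => show BB a b b' g * BB a b b' g = (1 + a g - b g) * b' g * b' g + b' g * b' g by
    simp only [BB]
    linear_combination b' g ^ 2 * h.t.sq g, sum_add_distrib, h.sB l, sum_self h.t'.eb]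
  ring

omit hM in
theorem D1 : DD a b a' b' 1 = 1 := by
  have := h.t.b1
  have := h.t'.b1
  rw [DD, h.t.out 1 h.t.one]
  omega

omit hM in
theorem B1 : BB a b b' 1 = -b' 1 := by rw [BB, h.t.out 1 h.t.one]; ring

theorem sF (l : ∀ g ∈ X, b' g ^ 2 ≤ 1) : ∑ g, (1 + a g - b g) * b' g * b g = 0 := by
  have e := eq_neg_of (abs_le_one (sum_mlt_sq_eq h.genD (inner_cst_eq h.sums.1))
    (sum_mlt_mul_degree h.genD (congrArg Int.cast h.D1))) (sum_mlt_sq_eq h.genB (inner_cst_eq (h.sBB l)))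
    (sum_mlt_mul_eq h.genD h.genB (inner_cst_eq h.sums.2.1)) φ
  rw [mlt_cst h.t.eb h.sums.2.2.2.2] at e
  have := sum_eq_mlt h.genB h.t.eb
  rw [show mlt (cst (BB a b b')) φ = 0 by omega] at this
  simp only [BB, sub_mul _ (b' _), sum_sub_distrib, sum_ne h.t'.eb h.t.eb h.n11.2.symm] at this
  simpa using this

theorem good (m : mlt (cst (DD a b a' b')) ψ ≠ 0) : ψ ≠ irrOne G ∧ ¬ 3 ∣ charDegree (ψ : G → ℂ) := by
  classical
  have k := abs_le_one (sum_mlt_sq_eq h.genD (inner_cst_eq h.sums.1)) (sum_mlt_mul_degree h.genD (congrArg Int.cast h.D1)) ψ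
  have n0 : ψ ≠ irrOne G := fun e => m (e ▸ mlt_cst (fun _ => by simp) h.sums.2.2.1)
  have n1 : ψ ≠ χ := fun e => m (e ▸ mlt_cst h.t.ea h.sums.2.2.2.1)
  have n2 : ψ ≠ φ := fun e => m (e ▸ mlt_cst h.t.eb h.sums.2.2.2.2)
  have n3 : ψ ≠ χ' := fun e => m (e ▸ mlt_cst h.t'.ea (DD_symm ▸ h.symm.sums.2.2.2.1))
  have n4 : ψ ≠ φ' := fun e => m (e ▸ mlt_cst h.t'.eb (DD_symm ▸ h.symm.sums.2.2.2.2))
  refine ⟨n0, fun d => ?_⟩
  let Θ : G → ℂ := fun g => if g ∈ sec w then 9 else 0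
  have e1 : classInner Θ ψ = mlt (cst (DD a b a' b')) ψ := by
    rw [mlt_cast h.genD, show cst (DD a b a' b') = Θ - ((irrOne G : G → ℂ) + χ + χ' - φ - φ') from funext fun g => by
      simp [cst, DD, h.u, Θ, h.t.ea, h.t.eb, h.t'.ea, h.t'.eb]]
    simp only [classInner_sub_left, classInner_add_left, irr_inner_eq_ite, n0.symm, n1.symm, n2.symm, n3.symm, n4.symm,
      if_false]
    ring
  have mem : ψ ∈ principalBlock M G := mem_principal_of_inner (X := sec w) (Θ := Θ)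
    (fun u g c k => mem_sec.2 ((mem_sec.1 k).trans c)) (fun _ k => if_pos k) (fun _ k => if_neg k)
    (by rw [e1]; exact_mod_cast m)
  have e2 : classInner Θ ψ = conj ((ψ : G → ℂ) w) := by
    rw [classInner_def, sum_congr rfl fun g _ => show Θ g * conj ((ψ : G → ℂ) g) =
      if g ∈ sec w then 9 * conj ((ψ : G → ℂ) w) else 0 by
        simp only [Θ]
        split_ifs with k
        · rw [h.n.const mem k]
        · simp, sum_ite_mem, univ_inter, sum_const, ← h.n.card]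
    have : (#(sec w) : ℂ) ≠ 0 := by exact_mod_cast (card_pos.2 ⟨w, h.n.self⟩).ne'
    push_cast
    simp only [nsmul_eq_mul]
    field_simp
  have e3 : (ψ : G → ℂ) w = mlt (cst (DD a b a' b')) ψ := by
    rw [← Complex.conj_conj ((ψ : G → ℂ) w), ← e2, e1, map_intCast]
  obtain ⟨i, hi⟩ := (pElt_iff_pow Nat.prime_three).1 h.n.pe
  have := Clifford.int_dvd_sub_of_pow_eq_one ψ.2.isGeneralizedCharacter hi e3 (n := charDegree (ψ : G → ℂ))
    (by rw [ψ.2.apply_one_eq]; simp)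
  omega

theorem core (l : ∀ g ∈ X, b' g ^ 2 ≤ 1) (l' : ∀ g ∈ X', b g ^ 2 ≤ 1) : ∃ (i j k : IrrCharacter G) (e : ℤ),
    (i ≠ irrOne G ∧ ¬ 3 ∣ charDegree (i : G → ℂ)) ∧ (j ≠ irrOne G ∧ ¬ 3 ∣ charDegree (j : G → ℂ)) ∧
    (k ≠ irrOne G ∧ ¬ 3 ∣ charDegree (k : G → ℂ)) ∧ (e = charDegree (i : G → ℂ) ∨ e = -charDegree (i : G → ℂ)) ∧
    (-b 1 - e = charDegree (j : G → ℂ) ∨ -b 1 - e = -charDegree (j : G → ℂ)) ∧
    (1 - 2 * b 1 - e = charDegree (k : G → ℂ) ∨ 1 - 2 * b 1 - e = -charDegree (k : G → ℂ)) := by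
  have s : ∑ g, BB a b b' g * BB a' b' b g = 1 * Nat.card G := by
    rw [sum_congr rfl fun g _ => show BB a b b' g * BB a' b' b g = (1 + a g - b g) * (1 + a' g - b' g) -
      (1 + a g - b g) * b' g * b g - (1 + a' g - b' g) * b g * b' g + b g * b' g by
        simp only [BB]
        linear_combination b' g * (h.ua g).2 - (h.symm.ua g).2]
    simp only [sum_add_distrib, sum_sub_distrib, h.su, h.sF l, h.symm.sF l', sum_ne h.t.eb h.t'.eb h.n11.2]
    ring
  have e : b' 1 = b 1 := by rw [h.t.b1, h.t'.b1, h.e]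
  obtain ⟨i, j, k, e, a1, a2, a3, a4⟩ := int_core (N := b 1) (sum_mlt_sq_eq h.genD (inner_cst_eq h.sums.1))
    (sum_mlt_sq_eq h.genB (inner_cst_eq (h.sBB l))) (sum_mlt_sq_eq h.symm.genB (inner_cst_eq (h.symm.sBB l')))
    (sum_mlt_mul_eq h.genD h.genB (inner_cst_eq h.sums.2.1))
    (sum_mlt_mul_eq h.genD h.symm.genB (inner_cst_eq (DD_symm ▸ h.symm.sums.2.1)))
    (sum_mlt_mul_eq h.genB h.symm.genB (inner_cst_eq s)) (sum_mlt_mul_degree h.genD (congrArg Int.cast h.D1))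
    (sum_mlt_mul_degree h.genB (congrArg Int.cast (e ▸ h.B1))) (sum_mlt_mul_degree h.symm.genB (congrArg Int.cast h.symm.B1))
  exact ⟨i, j, k, e, h.good a1, h.good a2, h.good a3, a4⟩

end Two

end Cfsg.Lib.N9
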