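import Cfsg.Agent.Lib.N9.D
import Cfsg.Agent.Lib.N9.F
import Cfsg.Agent.Lib.Transfer.Criteria
import Cfsg.Agent.S1001

/-! The case of a Klein four automizer. -/

set_option autoImplicit false

namespace Cfsg.Lib.N9

open Cfsg Subgroup Cfsg.Lib.Char Cfsg.Lib.Modular Cfsg.Lib.OddChar Cfsg.Lib.Block Finset

variable {G : Type*} [Group G] [Fintype G] {P : Sylow 3 G} {u v x y g : G}

local notation "𝐏" => (P : Subgroup G)
local notation "𝐍" => normalizer ((P : Subgroup G) : Set G)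
local notation "𝐂" => centralizer ((P : Subgroup G) : Set G)

theorem comm (c : Nat.card P = 9) (hu : u ∈ 𝐏) (hv : v ∈ 𝐏) : Commute u v :=
  have := IsPGroup.isMulCommutative_of_card_eq_prime_sq (p := 3) c
  le_centralizer 𝐏 hv u hu

theorem le_cent (c : Nat.card P = 9) (hu : u ∈ 𝐏) : 𝐏 ≤ centralizer {u} := fun _ m =>
  mem_centralizer_singleton_iff.2 (comm c m hu)

omit [Fintype G] in
theorem pe (hu : u ∈ 𝐏) : ∃ k, orderOf u = 3 ^ k := pElt_of_mem Nat.prime_three P.isPGroup' hu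

theorem nc_of (c : Nat.card P = 9) (hu : u ∈ 𝐏) (u1 : u ≠ 1) (h : ∀ n ∈ 𝐍, n * u * n⁻¹ = u → n ∈ 𝐂) : Nc u := by
  have l := le_cent c hu
  refine ⟨pe hu, u1, Transfer.hasNormalPComplement_subgroup_of_normalizer_le P.isPGroup'
    (fun h => P.not_dvd_index (h.trans (relIndex_dvd_index_of_le l))) l fun n m =>
      h n m.2 (mem_centralizer_singleton_iff_conj.1 m.1), ?_, fun d => P.not_dvd_index (d.trans (index_dvd_of_le l))⟩
  have := (P.subtype l).card_eq_multiplicity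
  exact Nat.pow_right_injective (by norm_num : 2 ≤ 3)
    (this.symm.trans ((Nat.card_congr (subgroupOfEquivOfLe l).toEquiv).trans c))

theorem fusion (c : Nat.card P = 9) (hu : u ∈ 𝐏) (h : g * u * g⁻¹ ∈ 𝐏) : ∃ n ∈ 𝐍, g * u * g⁻¹ = n * u * n⁻¹ := by
  have := IsPGroup.isMulCommutative_of_card_eq_prime_sq (p := 3) c
  obtain ⟨n, m, e⟩ := P.conj_eq_normalizer_conj_of_mem u g⁻¹ hu (by rw [inv_inv]; exact h)
  exact ⟨n⁻¹, inv_mem m, by simpa using e⟩

theorem mem_XX_iff (c : Nat.card P = 9) {K : Subgroup G} (l : K ≤ P) (hK : ∀ n ∈ 𝐍, ∀ k ∈ K, n * k * n⁻¹ ∈ K)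
    (hu : u ∈ 𝐏) : u ∈ XX K ↔ u ∉ K := by
  rw [mem_XX, pPart_of_pElt Nat.prime_three (pe hu)]
  refine ⟨fun h m => h 1 (by simpa using m), fun h k m => h ?_⟩
  obtain ⟨n, hn, e⟩ := fusion c (g := k⁻¹) (l m) (by simpa [mul_assoc] using hu)
  have := hK n hn _ m
  rw [← e] at this
  simpa [mul_assoc] using this

theorem exists_tri' {M : Ideal AlgInt} [Modular 3 M] (c : Nat.card P = 9) (hy : y ∈ 𝐏) (o : orderOf y = 3)
    (hK : ∀ n ∈ 𝐍, n * y * n⁻¹ ∈ zpowers y) (hb : 3 * #(XX (zpowers y)) < 2 * Nat.card G) :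
    ∃ χ φ a b, Tri M (XX (zpowers y)) χ φ a b := by
  have l := zpowers_le.2 hy
  refine exists_tri P ?_ (fun z m g k => ?_) hb
  · have := ((zpowers y).subgroupOf 𝐏).card_mul_index
    rw [Nat.card_congr (subgroupOfEquivOfLe l).toEquiv, Nat.card_zpowers, o, show Nat.card 𝐏 = 9 from c] at this
    rw [relIndex]
    omega
  · obtain ⟨n, hn, e⟩ := fusion c (l m) k
    obtain ⟨i, rfl⟩ := mem_zpowers_iff.1 m
    rw [e, ← conj_zpow]
    exact zpow_mem (hK n hn) i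

variable (P) in
theorem exists_sec (g : G) : ∃ u ∈ 𝐏, g ∈ sec u := by
  obtain ⟨k, m⟩ := conj_mem_sylow P (pElt_pPart Nat.prime_three g)
  exact ⟨_, m, mem_sec.2 (isConj_iff.2 ⟨k, rfl⟩).symm⟩

theorem sec_congr (h : IsConj u v) (m : g ∈ sec u) : g ∈ sec v := mem_sec.2 (h.symm.trans (mem_sec.1 m))

theorem XX_iff_of_sec {K : Subgroup G} (hu : ∃ k, orderOf u = 3 ^ k) (m : g ∈ sec u) : g ∈ XX K ↔ u ∈ XX K :=
  ⟨XX_congr (by rw [pPart_of_pElt Nat.prime_three hu]; exact (mem_sec.1 m).symm), fun h => mem_XX_of_sec hu h m⟩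

theorem not_dvd_cent [IsSimpleGroup G] {q i : ℕ} (hq : q.Prime) (hc : Nat.card G = 9 * 2 ^ i * q ^ 1) (u1 : u ≠ 1)
    (o : orderOf u ≠ q) : ¬ q ∣ Nat.card (centralizer ({u} : Set G)) := fun d => by
  have := Fact.mk hq
  obtain ⟨z, hz⟩ := exists_prime_orderOf_dvd_card' q d
  rw [← Subgroup.orderOf_coe] at hz
  have e := Cfsg.Agent.S1001.result q 2 i hq (by rw [hc]; ring) _ hz
  have m : u ∈ zpowers (z : G) := e ▸ mem_centralizer_singleton_iff.2 (mem_centralizer_singleton_iff.1 z.2).symm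
  exact ((Nat.dvd_prime hq).1 (hz ▸ orderOf_dvd_of_mem_zpowers m)).elim (fun e => u1 (orderOf_eq_one_iff.1 e)) o

theorem card_cent_dvd [IsSimpleGroup G] {q i : ℕ} (hq : q.Prime) (hc : Nat.card G = 9 * 2 ^ i * q ^ 1) (u1 : u ≠ 1)
    (o : orderOf u ≠ q) : Nat.card (centralizer ({u} : Set G)) ∣ 3 ^ 2 * 2 ^ i :=
  ((Nat.Prime.coprime_iff_not_dvd hq).2 (not_dvd_cent hq hc u1 o)).symm.dvd_of_dvd_mul_right
    (by have := card_subgroup_dvd_card (centralizer ({u} : Set G)); rwa [hc, pow_one] at this)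

theorem fin8 {a b c : ℕ} {e N : ℤ} (ha : 2 ≤ a ∧ (a % 2 = 1 → a = 7) ∧ a ≠ 22) (hb : 2 ≤ b ∧ (b % 2 = 1 → b = 7) ∧ b ≠ 22)
    (hc : 2 ≤ c ∧ (c % 2 = 1 → c = 7) ∧ c ≠ 22) (h1 : e = a ∨ e = -a) (hN : N = 8) (h2 : -N - e = b ∨ -N - e = -b)
    (h3 : 1 - 2 * N - e = c ∨ 1 - 2 * N - e = -c) : False := by
  omega

structure V4 (P : Sylow 3 G) (x y : G) : Prop where
  c : Nat.card P = 9
  hx : x ∈ (P : Subgroup G)
  hy : y ∈ (P : Subgroup G)
  ox : orderOf x = 3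
  oy : orderOf y = 3
  ind : x ∉ zpowers y
  nx : ∀ n ∈ normalizer ((P : Subgroup G) : Set G), n * x * n⁻¹ = x ∨ n * x * n⁻¹ = x⁻¹
  ny : ∀ n ∈ normalizer ((P : Subgroup G) : Set G), n * y * n⁻¹ = y ∨ n * y * n⁻¹ = y⁻¹
  s : ∃ n : G, n * x * n⁻¹ = x ∧ n * y * n⁻¹ = y⁻¹
  t : ∃ n : G, n * x * n⁻¹ = x⁻¹ ∧ n * y * n⁻¹ = y

omit [Fintype G] in
theorem zp3 (o : orderOf y = 3) (m : u ∈ zpowers y) : u = 1 ∨ u = y ∨ u = y⁻¹ := by
  obtain ⟨i, rfl⟩ := mem_zpowers_iff.1 m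
  rw [← zpow_mod_orderOf, o]
  have h : y ^ (2 : ℤ) = y⁻¹ := by
    rw [eq_inv_iff_mul_eq_one, ← zpow_add_one, ← pow_orderOf_eq_one y, o]; norm_cast
  have : i % (3 : ℕ) = 0 ∨ i % (3 : ℕ) = 1 ∨ i % (3 : ℕ) = 2 := by omega
  rcases this with e | e | e <;> rw [e] <;> simp [h]

omit [Fintype G] in
theorem ne_inv (o : orderOf y = 3) : y⁻¹ ≠ y := fun e => by
  have := orderOf_dvd_of_pow_eq_one (x := y) (n := 2) (by rw [sq]; nth_rw 1 [← e]; simp)
  rw [o] at this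
  omega

omit [Fintype G] in
theorem ne_one3 (o : orderOf y = 3) : y ≠ 1 := fun e => by simp [e] at o

theorem gen3 (c : Nat.card P = 9) (hx : x ∈ 𝐏) (hy : y ∈ 𝐏) (oy : orderOf y = 3) (ind : x ∉ zpowers y) (hu : u ∈ 𝐏) :
    ∃ a ∈ zpowers x, ∃ b ∈ zpowers y, a * b = u := by
  have l : zpowers x ⊔ zpowers y ≤ 𝐏 := sup_le (zpowers_le.2 hx) (zpowers_le.2 hy)
  have e : zpowers x ⊔ zpowers y = 𝐏 := by
    refine eq_of_le_of_card_ge l ?_
    obtain ⟨i, h2, hi⟩ := (Nat.dvd_prime_pow Nat.prime_three (m := 2)).1 ((card_dvd_of_le l).trans (dvd_of_eq c))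
    have : Nat.card (zpowers y) < Nat.card ↥(zpowers x ⊔ zpowers y) := lt_of_le_of_ne (card_le_of_le le_sup_right)
      fun e => ind (eq_of_le_of_card_ge le_sup_right e.ge ▸ mem_sup_left (mem_zpowers x))
    rw [Nat.card_zpowers, oy, hi] at this
    rw [hi, show Nat.card 𝐏 = 9 from c]
    interval_cases i <;> simp at this ⊢
  rw [← e] at hu
  exact (Core.mem_sup_of_le_normalizer_right (zpowers_le.2 (centralizer_le_normalizer _ fun z m =>
    comm c (zpowers_le.2 hy m) hx))).1 hu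

namespace V4
variable (h : V4 P x y)
include h

theorem symm : V4 P y x := ⟨h.c, h.hy, h.hx, h.oy, h.ox, fun m => by
  rcases zp3 h.ox m with e | e | e
  · exact ne_one3 h.oy e
  · exact h.ind (e ▸ mem_zpowers y)
  · exact h.ind (by rw [← inv_inv x, ← e]; exact inv_mem (mem_zpowers y)), h.ny, h.nx,
    h.t.imp fun _ => And.symm, h.s.imp fun _ => And.symm⟩

theorem cent {n : G} (h1 : n * x * n⁻¹ = x) (h2 : n * y * n⁻¹ = y) : n ∈ 𝐂 := fun u hu => by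
  obtain ⟨a, ha, b, hb, rfl⟩ := gen3 h.c h.hx h.hy h.oy h.ind hu
  obtain ⟨i, rfl⟩ := mem_zpowers_iff.1 ha
  obtain ⟨j, rfl⟩ := mem_zpowers_iff.1 hb
  exact ((Commute.zpow_left (mul_inv_eq_iff_eq_mul.1 h1).symm i).mul_left
    (Commute.zpow_left (mul_inv_eq_iff_eq_mul.1 h2).symm j)).eq

theorem w_not : x * y ∉ zpowers y := fun m => h.ind ((mul_mem_cancel_right (mem_zpowers y)).1 m)

theorem nc : Nc (x * y) := nc_of h.c (mul_mem h.hx h.hy) (fun e => h.w_not (e ▸ one_mem _)) fun n m e => by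
  rw [← conj_mul] at e
  rcases h.nx n m with a | a
  · rw [a, mul_right_inj] at e
    exact h.cent a e
  · rw [a] at e
    refine (h.ind ?_).elim
    have : x⁻¹ * x⁻¹ = x := by
      rw [← mul_inv_rev, inv_eq_iff_mul_eq_one, ← pow_orderOf_eq_one x, h.ox, pow_three']
    rw [← this, show x⁻¹ * x⁻¹ = y * (n * y * n⁻¹)⁻¹ by
      rw [eq_mul_inv_iff_mul_eq, mul_assoc, e, inv_mul_cancel_left]]
    rcases h.ny n m with b | b <;> simp [b, mul_mem]

theorem cls (hu : u ∈ 𝐏) : u = 1 ∨ IsConj u x ∨ IsConj u y ∨ IsConj u (x * y) := by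
  obtain ⟨s, s1, s2⟩ := h.s
  obtain ⟨t, t1, t2⟩ := h.t
  obtain ⟨a, ha, b, hb, rfl⟩ := gen3 h.c h.hx h.hy h.oy h.ind hu
  rcases zp3 h.ox ha with rfl | rfl | rfl <;> rcases zp3 h.oy hb with rfl | rfl | rfl
  · simp
  · exact .inr (.inr (.inl (by rw [one_mul])))
  · exact .inr (.inr (.inl (isConj_iff.2 ⟨s, by simpa using s2⟩).symm))
  · exact .inr (.inl (by rw [mul_one]))
  · exact .inr (.inr (.inr (.refl _)))
  · exact .inr (.inr (.inr (isConj_iff.2 ⟨s, by rw [← conj_mul, s1, s2]⟩).symm))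
  · exact .inr (.inl (isConj_iff.2 ⟨t, by simpa using t1⟩).symm)
  · exact .inr (.inr (.inr (isConj_iff.2 ⟨t, by rw [← conj_mul, t1, t2]⟩).symm))
  · refine .inr (.inr (.inr (((isConj_iff.2 ⟨t, by rw [← conj_mul, t1, t2]⟩).trans (isConj_iff.2 ⟨s, ?_⟩)).symm)))
    rw [← conj_mul, ← conj_inv, s1, s2]

theorem secs (g : G) : ¬ 3 ∣ orderOf g ∨ g ∈ sec x ∨ g ∈ sec y ∨ g ∈ sec (x * y) := by
  obtain ⟨u, hu, m⟩ := exists_sec P g
  refine (h.cls hu).imp (fun e => ?_) (.imp (sec_congr · m) (.imp (sec_congr · m) (sec_congr · m)))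
  rw [← pPart_eq_one_iff Nat.prime_three, ← isConj_one_right, ← e]
  exact mem_sec.1 m

theorem iff (hu : u ∈ 𝐏) : u ∈ XX (zpowers y) ↔ u ∉ zpowers y :=
  mem_XX_iff h.c (zpowers_le.2 h.hy) (fun n m k hk => by
    obtain ⟨i, rfl⟩ := mem_zpowers_iff.1 hk
    rw [← conj_zpow]
    rcases h.ny n m with e | e <;> simp [e]) hu

theorem mx (m : g ∈ sec x) : g ∈ XX (zpowers y) ∧ g ∉ XX (zpowers x) :=
  ⟨(XX_iff_of_sec (pe h.hx) m).2 ((h.iff h.hx).2 h.ind),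
    fun k => (h.symm.iff h.hx).1 ((XX_iff_of_sec (pe h.hx) m).1 k) (mem_zpowers x)⟩

theorem mw (m : g ∈ sec (x * y)) : g ∈ XX (zpowers y) :=
  (XX_iff_of_sec h.nc.pe m).2 ((h.iff (mul_mem h.hx h.hy)).2 h.w_not)

theorem sub (m : g ∈ XX (zpowers y)) : g ∈ sec x ∨ g ∈ sec (x * y) := by
  rcases h.secs g with k | k | k | k
  · exact (not_mem_XX k m).elim
  · exact .inl k
  · exact ((h.symm.mx k).2 m).elim
  · exact .inr k

variable (M : Ideal AlgInt) [hM : Modular 3 M]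

theorem tri : ∃ χ φ a b, Tri M (XX (zpowers y)) χ φ a b := by
  classical
  refine exists_tri' h.c h.hy h.oy (fun n m => by rcases h.ny n m with e | e <;> simp [e]) ?_
  have h1 := card_le_card (show XX (zpowers y) ⊆ sec x ∪ sec (x * y) from fun g m => mem_union.2 (h.sub m))
  have h2 := card_union_le (sec x) (sec (x * y))
  have h3 := card_sec_le h.ox
  have h4 := h.nc.card
  have : 0 < Nat.card G := Nat.card_pos
  omega

variable {M} {χ φ χ' φ' : IrrCharacter G} {a b a' b' : G → ℤ} [IsSimpleGroup G] {q i : ℕ}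

theorem atx (T : Two M (XX (zpowers y)) (XX (zpowers x)) χ φ χ' φ' a b a' b' (x * y)) (hq : q.Prime) (h3 : q ≠ 3)
    (hc : Nat.card G = 9 * 2 ^ i * q ^ 1) :
    a x = 1 ∧ (a' x = 1 ∨ a' x = -2) ∧ (a' x = -2 → ∀ g ∈ XX (zpowers y), b' g ^ 2 ≤ 1) := by
  have x1 := ne_one3 h.ox
  obtain ⟨b1, b2⟩ := sec_bound (M := M) (pe h.hx) x1 (isSolvable_of_card_dvd_pow_mul_pow _ Nat.prime_three Nat.prime_two
    (card_cent_dvd hq hc x1 (h.ox ▸ h3.symm))) P h.c (le_cent h.c h.hx) fun m hm n hn h1 h2 h3 h4 => by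
      rw [mem_centralizer_singleton_iff_conj] at h1 h2
      have e1 := (h.ny m hm).resolve_left fun e => h3 (h.cent h1 e)
      have e2 := (h.ny n hn).resolve_left fun e => h4 (h.cent h2 e)
      refine h.cent ?_ ?_
      · rw [mul_inv_rev, ← mul_assoc, mul_assoc m, mul_assoc m, h2, h1]
      · rw [mul_inv_rev, ← mul_assoc, mul_assoc m, mul_assoc m, e2, ← conj_inv, e1, inv_inv]
  have k := h.mx (self_mem_sec (pe h.hx))
  have k1 := T.t.inn x k.1
  have k2 := T.t'.out x k.2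
  have w := (T.W _).2 T.n.self
  have k3 := T.t.mod3 T.n w.1 (pe h.hx)
  have k4 := T.t'.mod3 T.n w.2 (pe h.hx)
  have k5 : 1 + a x ^ 2 + b x ^ 2 + a' x ^ 2 + b' x ^ 2 ≤ 18 := by exact_mod_cast (T.sq_le x).trans b1
  have l1 : a x < 4 := by nlinarith [sq_nonneg (a' x), sq_nonneg (b' x)]
  have l2 : -2 < a x := by nlinarith [sq_nonneg (a' x), sq_nonneg (b' x)]
  have l3 : a' x < 4 := by nlinarith [sq_nonneg (a x), sq_nonneg (b x)]
  have l4 : -5 < a' x := by nlinarith [sq_nonneg (a x), sq_nonneg (b x)]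
  refine ⟨by omega, by omega, fun e g m => ?_⟩
  rcases h.sub m with k | k
  · rcases b2 g k with c | c
    · have := c _ T.t'.m2
      rw [T.t'.eb, T.t'.eb, Int.cast_inj] at this
      rw [this, show b' x = -1 by omega]; norm_num
    · have k5 : 1 + a g ^ 2 + b g ^ 2 + a' g ^ 2 + b' g ^ 2 ≤ 6 := by exact_mod_cast (T.sq_le g).trans c
      have k1 := T.t.inn g m
      have k2 := T.t'.out g (h.mx k).2
      have : b' g < 2 := by nlinarith [sq_nonneg (a g + b g)]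
      have : -2 < b' g := by nlinarith [sq_nonneg (a g + b g)]
      nlinarith
  · have := T.n.const T.t'.m2 k
    rw [T.t'.eb, T.t'.eb, Int.cast_inj] at this
    rw [this, (T.t'.val T.n w.2).2]; norm_num

omit hM [IsSimpleGroup G] in
theorem dvd_of_const {ξ : IrrCharacter G} {f : G → ℤ} (e : ∀ g, (ξ : G → ℂ) g = f g) {c : ℤ} (h1 : f x = c) (h2 : f y = c)
    (h3 : f (x * y) = c) : 9 ∣ (charDegree (ξ : G → ℂ) : ℤ) - c := by
  have := int_dvd_charDegree_sub_of_const ξ.2.isCharacter 𝐏 (c := c) fun u hu u1 => by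
    rcases (h.cls hu).resolve_left u1 with k | k | k <;> rw [ξ.2.isClassFunction.eq_of_isConj k, e]
    · rw [h1]
    · rw [h2]
    · rw [h3]
  rwa [show Nat.card 𝐏 = 9 from h.c] at this

set_option maxHeartbeats 1000000 in
omit hM in
theorem main (hG : ¬ IsMulCommutative G) {j : ℕ} (hq : q.Prime) (h2 : q ≠ 2) (h3 : q ≠ 3)
    (hc : Nat.card G = 9 * 2 ^ i * q ^ j) : j = 1 ∧ 7 < q := by
  obtain ⟨M, hM⟩ := exists_isPModular Nat.prime_three
  have : Modular 3 M := ⟨hM⟩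
  obtain ⟨χ, φ, a, b, t⟩ := h.tri M
  obtain ⟨χ', φ', a', b', t'⟩ := h.symm.tri M
  have c := (comm h.c h.hy h.hx).eq
  have w := h.mw h.nc.self
  have w' : x * y ∈ XX (zpowers x) := h.symm.mw (c ▸ h.nc.self)
  obtain ⟨rfl, d1, -⟩ := t.deg hG hq h2 h3 hc h.nc w
  obtain ⟨-, d2, -⟩ := t'.deg hG hq h2 h3 hc h.nc w'
  have m1 := t.mod3 h.nc w pElt_one
  have m2 := t'.mod3 h.nc w' pElt_one
  have T : Two M _ _ χ φ χ' φ' a b a' b' (x * y) := ⟨t, t', h.nc, fun g => ⟨fun m => (h.sub m.1).resolve_left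
    fun k => (h.mx k).2 m.2, fun m => ⟨h.mw m, h.symm.mw (c ▸ m)⟩⟩, by omega⟩
  refine ⟨rfl, by_contra fun l => ?_⟩
  obtain ⟨a1, a2, a3⟩ := h.atx T hq h3 hc
  obtain ⟨b1, b2, b3⟩ := h.symm.atx (c ▸ T.symm) hq h3 hc
  have e1 := t.da
  have e2 := t'.da
  have e3 := t.db
  have e4 := t.b1
  have e5 := T.e
  have g2 := two_le_deg hG t.n1
  have a4 : a' x = -2 := a2.resolve_left fun e => by
    have := h.dvd_of_const t'.ea e b1 (t'.val h.nc w').1
    omega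
  have b4 : a y = -2 := b2.resolve_left fun e => by
    have := h.dvd_of_const t.ea a1 e (t.val h.nc w).1
    omega
  have k1 := t.inn x (h.mx (self_mem_sec (pe h.hx))).1
  have k2 := t.out y (h.symm.mx (self_mem_sec (pe h.hy))).2
  have k3 := h.dvd_of_const t.eb (c := -1) (by omega) (by omega) (t.val h.nc w).2
  obtain rfl : q = 7 := by omega
  obtain ⟨i, j, k, e, c1, c2, c3, c4, c5, c6⟩ := T.core (a3 a4) (b3 b4)
  have key : ∀ ξ : IrrCharacter G, ξ ≠ irrOne G ∧ ¬ 3 ∣ charDegree (ξ : G → ℂ) → 2 ≤ charDegree (ξ : G → ℂ) ∧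
      (charDegree (ξ : G → ℂ) % 2 = 1 → charDegree (ξ : G → ℂ) = 7) ∧ charDegree (ξ : G → ℂ) ≠ 22 := fun ξ m => by
    have d := dvd_of_not_three (hc ▸ ξ.2.charDegree_dvd_card) m.2
    have l := two_le_deg hG m.1
    refine ⟨l, fun o => ?_, fun e => ?_⟩
    · obtain ⟨n, l', e⟩ := pow_of_odd hq d (Nat.odd_iff.2 o)
      interval_cases n <;> omega
    · obtain ⟨n, l', e⟩ := pow_of_odd hq (d := 11) (Dvd.dvd.trans ⟨2, e⟩ d) (by decide)
      interval_cases n <;> omega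
  exact fin8 (key i c1) (key j c2) (key k c3) c4 (by omega) c5 c6

end V4

end Cfsg.Lib.N9
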