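import Cfsg.Agent.Lib.N9.G
import Cfsg.Agent.S0496

/-! The case of a cyclic Sylow 3-subgroup with automizer of order two. -/

set_option autoImplicit false

namespace Cfsg.Lib.N9

open Cfsg Subgroup Cfsg.Lib.Char Cfsg.Lib.Modular Cfsg.Lib.OddChar Cfsg.Lib.Block Finset

variable {G : Type*} [Group G] [Fintype G] {P : Sylow 3 G} {u v x y g t : G}

local notation "𝐏" => (P : Subgroup G)
local notation "𝐍" => normalizer ((P : Subgroup G) : Set G)
local notation "𝐂" => centralizer ((P : Subgroup G) : Set G)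

omit [Fintype G] in
theorem eq_one_of_inv (hv : v ∈ 𝐏) (e : v⁻¹ = v) : v = 1 := by
  obtain ⟨k, hk⟩ := pe hv
  have := orderOf_dvd_of_pow_eq_one (x := v) (n := 2) (by rw [sq]; nth_rw 1 [← e]; simp)
  exact orderOf_eq_one_iff.1 (Nat.Coprime.eq_one_of_dvd (by rw [hk]; exact Nat.Coprime.pow_left k (by norm_num)) this)

theorem exists_u (h : 2 ∣ Nat.card G) : ∃ u : G, orderOf u = 2 ∧ ¬ 2 ∣ (centralizer ({u} : Set G)).index := by
  obtain ⟨P⟩ : Nonempty (Sylow 2 G) := inferInstance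
  have := Finite.one_lt_card_iff_nontrivial.1 (Nat.le_of_dvd Nat.card_pos (P.dvd_card_of_dvd_card h))
  have := P.isPGroup'.center_nontrivial
  obtain ⟨k, h1, h2⟩ := (P.isPGroup'.to_subgroup (center P)).nontrivial_iff_card.1 this
  have : 2 ∣ Nat.card (center P) := h2 ▸ dvd_pow_self 2 h1.ne'
  obtain ⟨u, h4⟩ := exists_prime_orderOf_dvd_card' 2 this
  exact ⟨u, (orderOf_coe _).trans ((orderOf_coe u).trans h4), fun e => P.not_dvd_index (e.trans (index_dvd_of_le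
    fun g hg => mem_centralizer_singleton_iff.2 (congrArg Subtype.val (mem_center_iff.1 u.2 ⟨g, hg⟩))))⟩

structure Cy (P : Sylow 3 G) (u : G) : Prop where
  c : Nat.card P = 9
  hu : u ∈ (P : Subgroup G)
  o : orderOf u = 9
  nu : ∀ n ∈ normalizer ((P : Subgroup G) : Set G), n * u * n⁻¹ = u ∨ n * u * n⁻¹ = u⁻¹
  s : ∃ n : G, n * u * n⁻¹ = u⁻¹

namespace Cy
variable (h : Cy P u)
include h

theorem zp : zpowers u = 𝐏 :=
  eq_of_le_of_card_ge (zpowers_le.2 h.hu) (by rw [Nat.card_zpowers, h.o, show Nat.card 𝐏 = 9 from h.c])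

theorem inv {n : G} (e : n * u * n⁻¹ = u⁻¹) (hv : v ∈ 𝐏) : n * v * n⁻¹ = v⁻¹ := by
  obtain ⟨i, rfl⟩ := mem_zpowers_iff.1 (h.zp.ge hv)
  rw [← conj_zpow, e, inv_zpow]

theorem nc (hv : v ∈ 𝐏) (v1 : v ≠ 1) : Nc v := nc_of h.c hv v1 fun n m e => by
  rcases h.nu n m with a | a
  · intro w hw
    obtain ⟨i, rfl⟩ := mem_zpowers_iff.1 (h.zp.ge hw)
    exact (Commute.zpow_left (mul_inv_eq_iff_eq_mul.1 a).symm i).eq
  · exact (v1 (eq_one_of_inv hv ((h.inv a hv).symm.trans e))).elim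

theorem cj (hv : v ∈ 𝐏) : IsConj v v⁻¹ := let ⟨n, e⟩ := h.s; isConj_iff.2 ⟨n, h.inv e hv⟩

theorem o3 : orderOf (u ^ 3) = 3 := by rw [orderOf_pow' _ (by norm_num), h.o]; norm_num

theorem cls (hv : v ∈ 𝐏) : v ∈ zpowers (u ^ 3) ∨ (IsConj v u ∨ IsConj v (u ^ 2) ∨ IsConj v (u ^ 4)) ∧ zpowers v = 𝐏 := by
  classical
  have := h.zp.ge hv
  rw [← mem_powers_iff_mem_zpowers, (isOfFinOrder_of_finite u).mem_powers_iff_mem_range_orderOf, h.o] at this
  obtain ⟨i, hi, rfl⟩ := mem_image.1 this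
  have e : ∀ i j, i + j = 9 → IsConj (u ^ i) (u ^ j) := fun i j e => by
    have := h.cj (pow_mem h.hu i)
    rwa [show (u ^ i)⁻¹ = u ^ j by rw [inv_eq_iff_mul_eq_one, ← pow_add, e, ← h.o, pow_orderOf_eq_one]] at this
  have z : ∀ i, Nat.gcd 9 i = 1 → zpowers (u ^ i) = 𝐏 := fun i e => eq_of_le_of_card_ge (zpowers_le.2 (pow_mem h.hu i))
    (by rw [Nat.card_zpowers, orderOf_pow, h.o, e, show Nat.card 𝐏 = 9 from h.c])
  rw [mem_range] at hi
  interval_cases i
  · simp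
  · exact .inr ⟨.inl (by rw [pow_one]), z _ rfl⟩
  · exact .inr ⟨.inr (.inl (.refl _)), z _ rfl⟩
  · simp
  · exact .inr ⟨.inr (.inr (.refl _)), z _ rfl⟩
  · exact .inr ⟨.inr (.inr (e _ _ rfl)), z _ rfl⟩
  · exact .inl (by rw [show 6 = 3 * 2 from rfl, pow_mul]; exact pow_mem (mem_zpowers _) 2)
  · exact .inr ⟨.inr (.inl (e _ _ rfl)), z _ rfl⟩
  · exact .inr ⟨.inl (by simpa using e 8 1 rfl), z _ rfl⟩

theorem nk {n : G} (m : n ∈ 𝐍) : n * u ^ 3 * n⁻¹ ∈ zpowers (u ^ 3) := by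
  rw [← conj_pow]
  rcases h.nu n m with e | e <;> simp [e]

theorem iff (hv : v ∈ 𝐏) : v ∈ XX (zpowers (u ^ 3)) ↔ v ∉ zpowers (u ^ 3) :=
  mem_XX_iff h.c (zpowers_le.2 (pow_mem h.hu 3)) (fun n m k hk => by
    obtain ⟨i, rfl⟩ := mem_zpowers_iff.1 hk
    rw [← conj_zpow]
    exact zpow_mem (h.nk m) i) hv

theorem not {i : ℕ} (e : Nat.gcd 9 i = 1) : u ^ i ∉ zpowers (u ^ 3) := fun m => by
  have := orderOf_dvd_of_mem_zpowers m
  rw [h.o3, orderOf_pow, h.o, e] at this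
  omega

theorem nci {i : ℕ} (e : Nat.gcd 9 i = 1) : Nc (u ^ i) := h.nc (pow_mem h.hu i) fun a => h.not e (a ▸ one_mem _)

variable (M : Ideal AlgInt) [hM : Modular 3 M]

theorem tri : ∃ χ φ a b, Tri M (XX (zpowers (u ^ 3))) χ φ a b := by
  classical
  refine exists_tri' h.c (pow_mem h.hu 3) h.o3 (fun n => h.nk) ?_
  have h1 := card_le_card (show XX (zpowers (u ^ 3)) ⊆ sec (u ^ 1) ∪ (sec (u ^ 2) ∪ sec (u ^ 4)) from fun g m => by
    obtain ⟨v, hv, k⟩ := exists_sec P g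
    simpa using ((h.cls hv).resolve_left ((h.iff hv).1 ((XX_iff_of_sec (pe hv) k).1 m))).1.imp (sec_congr · k)
      (.imp (sec_congr · k) (sec_congr · k)))
  have h2 := card_union_le (sec (u ^ 1)) (sec (u ^ 2) ∪ sec (u ^ 4))
  have h3 := card_union_le (sec (u ^ 2)) (sec (u ^ 4))
  have := (h.nci (i := 1) rfl).card
  have := (h.nci (i := 2) rfl).card
  have := (h.nci (i := 4) rfl).card
  have : 0 < Nat.card G := Nat.card_pos
  omega

variable {M} {χ φ : IrrCharacter G} {a b : G → ℤ} (T : Tri M (XX (zpowers (u ^ 3))) χ φ a b)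
include T

theorem val (n : a 1 ≤ 7) (l : 2 ≤ a 1) : b 1 = 8 ∧ ∀ g, 3 ∣ orderOf g → b g = -1 := by
  have w : u ^ 1 ∈ XX (zpowers (u ^ 3)) := (h.iff (pow_mem h.hu 1)).2 (h.not rfl)
  have y1 := h.nc (pow_mem h.hu 3) (ne_one3 h.o3)
  have k1 := T.sq_le (u ^ 3)
  rw [y1.lam] at k1
  have k1 : 1 + a (u ^ 3) ^ 2 + b (u ^ 3) ^ 2 ≤ 9 := by exact_mod_cast k1
  have k2 := T.out _ fun m => (h.iff (pow_mem h.hu 3)).1 m (mem_zpowers _)
  have k3 := T.mod3 (h.nci rfl) w y1.pe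
  have k4 := T.mod3 (h.nci rfl) w pElt_one
  have k5 : ∀ v ∈ 𝐏, v ≠ 1 → (a v = a (u ^ 3) ∧ b v = b (u ^ 3)) ∨ (a v = 1 ∧ b v = -1) := fun v hv v1 => by
    by_cases m : v ∈ zpowers (u ^ 3)
    · have c : IsConj (u ^ 3) v := by
        rcases (zp3 h.o3 m).resolve_left v1 with rfl | rfl
        exacts [.refl _, h.cj (pow_mem h.hu 3)]
      have e1 := χ.2.isClassFunction.eq_of_isConj c
      have e2 := φ.2.isClassFunction.eq_of_isConj c
      rw [T.ea, T.ea, Int.cast_inj] at e1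
      rw [T.eb, T.eb, Int.cast_inj] at e2
      exact .inl ⟨e1.symm, e2.symm⟩
    · exact .inr (T.val (h.nc hv v1) ((h.iff hv).2 m))
  have l1 : a (u ^ 3) < 2 := by nlinarith
  have l2 : -3 < a (u ^ 3) := by nlinarith
  have k6 : a (u ^ 3) ≠ 1 := fun e => by
    have := int_dvd_charDegree_sub_of_const χ.2.isCharacter 𝐏 (c := 1) fun v hv v1 => by
      rw [T.ea]; congr 1; have := k5 v hv v1; omega
    rw [show Nat.card 𝐏 = 9 from h.c, ← T.da] at this
    omega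
  have k7 : ∀ v ∈ 𝐏, v ≠ 1 → b v = -1 := fun v hv v1 => by have := k5 v hv v1; omega
  have k8 := int_dvd_charDegree_sub_of_const φ.2.isCharacter 𝐏 (c := -1) fun v hv v1 => by rw [T.eb, k7 v hv v1]
  rw [show Nat.card 𝐏 = 9 from h.c, ← T.db] at k8
  have := T.b1
  refine ⟨by omega, fun g d => ?_⟩
  obtain ⟨v, hv, m⟩ := exists_sec P g
  have v1 : v ≠ 1 := fun e => (pPart_eq_one_iff Nat.prime_three).1 (isConj_one_right.1 (e ▸ mem_sec.1 m)) d
  have := (h.nc hv v1).const T.m2 m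
  rw [T.eb, T.eb, Int.cast_inj] at this
  rw [this, k7 v hv v1]

variable [IsSimpleGroup G] (hG : ¬ IsMulCommutative G) (b8 : b 1 = 8) (bv : ∀ g, 3 ∣ orderOf g → b g = -1)
include hG b8 bv

omit hM in
theorem cent (hv : v ∈ 𝐏) (v1 : v ≠ 1) : centralizer ({v} : Set G) = 𝐏 := by
  classical
  have n := h.nc hv v1
  set C := centralizer ({v} : Set G)
  have := Fintype.ofFinite C
  have c9 := card_filter_not_dvd_mul n.npc
  rw [n.fac] at c9
  set O := univ.filter fun y : C => ¬ 3 ∣ orderOf y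
  obtain ⟨k, hk⟩ := (φ.2.isCharacter.restrict C).exists_inner_eq_nat isCharacter_one
  rw [classInner_one_right, inv_mul_eq_iff_eq_mul₀ (card_ne_zero_complex C)] at hk
  simp only [T.eb] at hk
  have hk : ∑ y : C, b y = Nat.card C * k := by exact_mod_cast hk
  have e : ∑ y : C, (b y + 1) = ∑ y ∈ O, (b y + 1) := (sum_subset (subset_univ _) fun y _ m => by
    rw [bv y (by simpa [O] using m)]; rfl).symm
  have lt : ∀ y : C, y ≠ 1 → b y + 1 < 9 := fun y y1 => by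
    have := abs_lt.1 (abs_lt_deg hG T.n2 (fun e => y1 (Subtype.ext e)) (T.eb y))
    rw [← T.db] at this
    omega
  have o : O = {1} := eq_singleton_iff_unique_mem.2 ⟨by simp [O], fun y m => by_contra fun y1 => by
    have := sum_lt_sum (s := O) (f := fun y : C => b y + 1) (g := fun _ => 9) (fun z _ => by
      by_cases z1 : z = 1
      · simp [z1, b8]
      · exact (lt z z1).le) ⟨y, m, lt y y1⟩
    rw [← e, sum_add_distrib, hk, sum_const, sum_const, card_univ, ← Nat.card_eq_fintype_card, ← c9] at this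
    simp only [nsmul_eq_mul] at this
    push_cast at this
    nlinarith [Int.natCast_nonneg #O, Int.natCast_nonneg k]⟩
  rw [o, card_singleton] at c9
  exact (eq_of_le_of_card_ge (le_cent h.c hv) (by rw [← c9, show Nat.card 𝐏 = 9 from h.c]; rfl)).symm

open Classical in
omit hM h bv in
theorem count {i : ℕ} (hc : Nat.card G = 9 * 2 ^ i * 7 ^ 1) (o : orderOf t = 2)
    (d : ¬ 2 ∣ (centralizer ({t} : Set G)).index) :
    #{x : G | x * t * x⁻¹ * t ∈ XX (zpowers (u ^ 3))} = 24 * 2 ^ i := by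
  classical
  have t1 : t ≠ 1 := fun e => by simp [e] at o
  have d8 : charDegree (φ : G → ℂ) = 8 := by have := T.db; omega
  have b0 : b t = 0 := by
    have := (φ.2.eq_zero_or_norm_eq_of_coprime (g := t) (by
      rw [d8]; exact Nat.Coprime.pow_left 3 ((Nat.Prime.coprime_iff_not_dvd Nat.prime_two).2 d))).resolve_right fun e => by
        have := abs_lt_deg hG T.n2 t1 (T.eb t)
        rw [φ.2.isCharacter.norm_apply_one, T.eb, Complex.norm_intCast] at e
        have e : |b t| = charDegree (φ : G → ℂ) := by exact_mod_cast e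
        omega
    rwa [T.eb, Int.cast_eq_zero] at this
  have a1 := T.out t (not_mem_XX (by rw [o]; norm_num))
  have a7 := T.b1
  have s1 := χ.2.sum_conj_mul t t
  have s2 := φ.2.sum_conj_mul t t
  simp only [T.ea, T.eb] at s1 s2
  rw [show a t = -1 by omega, show a 1 = 7 by omega, hc] at s1
  rw [b0] at s2
  have s1 : ∑ x, a (x * t * x⁻¹ * t) = 9 * 2 ^ i := by
    apply Int.cast_injective (α := ℂ)
    push_cast at s1 ⊢
    rw [s1]; ring
  have s2 : ∑ x, b (x * t * x⁻¹ * t) = 0 := by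
    apply Int.cast_injective (α := ℂ)
    push_cast at s2 ⊢
    rw [s2]; ring
  have s3 : ∑ x, (1 + a (x * t * x⁻¹ * t) - b (x * t * x⁻¹ * t)) =
      ∑ x, if x * t * x⁻¹ * t ∈ XX (zpowers (u ^ 3)) then 3 else 0 := sum_congr rfl fun x _ => by
    split_ifs with m
    exacts [T.inn _ m, T.out _ m]
  rw [sum_sub_distrib, sum_add_distrib, s1, s2, sum_const, card_univ, ← Nat.card_eq_fintype_card, hc, ← sum_filter,
    sum_const] at s3
  simp only [nsmul_eq_mul] at s3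
  push_cast at s3
  have s4 : (3 : ℤ) * (#{x : G | x * t * x⁻¹ * t ∈ XX (zpowers (u ^ 3))} : ℕ) = 3 * (24 * 2 ^ i) := by linarith
  exact_mod_cast mul_left_cancel₀ (by norm_num) s4

open Classical in
omit hM in
theorem lower (t2 : t * t = 1) (e : t * u * t⁻¹ = u⁻¹) :
    Nat.card (centralizer ({t} : Set G)) ^ 2 ≤ #{x : G | x * t * x⁻¹ * t ∈ XX (zpowers (u ^ 3))} := by
  classical
  set C := centralizer ({t} : Set G)
  have := Fintype.ofFinite C
  have key : ∀ c d : C, (c * u * d : G) * t * (c * u * d : G)⁻¹ * t = c * u ^ 2 * (c : G)⁻¹ := fun c d => by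
    have h1 := mem_centralizer_singleton_iff_conj.1 d.2
    have h2 := mem_centralizer_singleton_iff.1 (C.inv_mem c.2)
    have h3 : t * u⁻¹ * t = u := by
      rw [← e, ← mul_assoc, ← mul_assoc, t2, one_mul, inv_mul_cancel_right]
    calc _ = c * u * (d * t * (d : G)⁻¹) * u⁻¹ * ((c : G)⁻¹ * t) := by group
      _ = c * u * (t * u⁻¹ * t) * (c : G)⁻¹ := by rw [h1, h2]; group
      _ = _ := by rw [h3, sq]; group
  rw [sq, Nat.card_eq_fintype_card, ← card_univ, ← card_product]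
  refine card_le_card_of_injOn (fun z => z.1 * u * z.2) (fun z _ => ?_) ?_
  · simp only [coe_filter, mem_univ, true_and, Set.mem_setOf_eq, key]
    exact XX_congr (isConj_iff.2 ⟨_, (pPart_conj 3 _ _).symm⟩) ((h.iff (pow_mem h.hu 2)).2 (h.not rfl))
  rintro ⟨c, d⟩ - ⟨c', d'⟩ - k
  simp only at k
  have k1 := key c d
  rw [k, key] at k1
  have m : ((c⁻¹ * c' : C) : G) ∈ 𝐏 := by
    rw [← h.cent T hG b8 bv (pow_mem h.hu 2) (h.nci rfl).ne, mem_centralizer_singleton_iff_conj]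
    push_cast
    rw [mul_inv_rev, inv_inv, ← mul_assoc, mul_assoc (c : G)⁻¹, mul_assoc (c : G)⁻¹, k1]
    group
  have k2 := h.inv e m
  rw [← mem_centralizer_singleton_iff.1 (c⁻¹ * c').2, mul_inv_cancel_right] at k2
  obtain rfl : c = c' := inv_mul_eq_one.1 (Subtype.ext (eq_one_of_inv m k2.symm))
  rw [Subtype.ext (mul_left_cancel k)]

omit hM T b8 bv in
theorem main {q i j : ℕ} (hq : q.Prime) (h2 : q ≠ 2) (h3 : q ≠ 3)
    (hc : Nat.card G = 9 * 2 ^ i * q ^ j) : j = 1 ∧ (7 < q ∨ Nat.card G = 504) := by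
  classical
  obtain ⟨M, hM⟩ := exists_isPModular Nat.prime_three
  have : Modular 3 M := ⟨hM⟩
  obtain ⟨χ, φ, a, b, T⟩ := h.tri M
  obtain ⟨rfl, d1, -⟩ := T.deg hG hq h2 h3 hc (h.nci (i := 1) rfl) ((h.iff (pow_mem h.hu 1)).2 (h.not rfl))
  refine ⟨rfl, or_iff_not_imp_left.2 fun l => ?_⟩
  obtain ⟨b8, bv⟩ := h.val T (by omega) (by rw [T.da]; exact_mod_cast two_le_deg hG T.n1)
  have := T.b1
  obtain rfl : q = 7 := by omega
  obtain ⟨t, o, d⟩ := exists_u (G := G) (Dvd.dvd.trans ⟨4, by have := T.db; omega⟩ φ.2.charDegree_dvd_card)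
  have t2 : t * t = 1 := by rw [← sq, ← o, pow_orderOf_eq_one]
  obtain ⟨x, m⟩ := card_pos.1 ((count T hG b8 hc o d).symm ▸ (by positivity : 0 < 24 * 2 ^ i))
  rw [mem_filter] at m
  obtain ⟨v, hv, k⟩ := exists_sec P (x * t * x⁻¹ * t)
  have vK := (h.iff hv).1 ((XX_iff_of_sec (pe hv) k).1 m.2)
  obtain ⟨y, hy, c⟩ := exists_isConj_mul_of_isConj_pPart Nat.prime_three (mem_sec.1 k)
  have y1 : (y : G) = 1 := eq_one_of_pElt_of_not_dvd
    (pe ((h.cent T hG b8 bv hv fun e => vK (e ▸ one_mem _)).le y.2)) (by rwa [orderOf_coe])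
  rw [y1, mul_one] at c
  obtain ⟨k, c⟩ := isConj_iff.1 c.symm
  have ti : t⁻¹ = t := inv_eq_of_mul_eq_one_right t2
  have e : k * t * k⁻¹ * v * (k * t * k⁻¹)⁻¹ = v⁻¹ := by
    rw [← c]
    simp only [mul_inv_rev, inv_inv, ti, mul_assoc, inv_mul_cancel_left]
    rw [← mul_assoc t t, t2, one_mul]
  obtain ⟨n, hn⟩ := mem_zpowers_iff.1 (((h.cls hv).resolve_left vK).2.ge h.hu)
  have cc := card_centralizer_eq_of_isConj (isConj_iff.2 ⟨k, rfl⟩ : IsConj t (k * t * k⁻¹))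
  have i1 := (centralizer ({t} : Set G)).card_mul_index
  have i2 := (centralizer ({k * t * k⁻¹} : Set G)).card_mul_index
  have i3 : (centralizer ({k * t * k⁻¹} : Set G)).index = (centralizer ({t} : Set G)).index :=
    Nat.eq_of_mul_eq_mul_left Nat.card_pos (by rw [i2, ← cc, i1])
  have lo := h.lower T hG b8 bv (t := k * t * k⁻¹) (by rw [conj_mul, t2]; simp) (by rw [← hn, ← conj_zpow, e, inv_zpow])
  rw [count T hG b8 hc (by rw [orderOf_conj_eq, o]) (i3 ▸ d), ← cc] at lo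
  have l2 : 2 ^ i ≤ Nat.card (centralizer ({t} : Set G)) := Nat.le_of_dvd Nat.card_pos
    ((Nat.Coprime.pow_left i ((Nat.Prime.coprime_iff_not_dvd Nat.prime_two).2 d)).dvd_of_dvd_mul_right
      (by rw [i1, hc]; exact ⟨63, by ring⟩))
  have l3 : 2 ^ i ≤ 24 := by nlinarith [Nat.two_pow_pos i]
  have l4 : i < 5 := (Nat.pow_lt_pow_iff_right one_lt_two).1 (by omega)
  have l5 : 2 ^ i ≤ 2 ^ 4 := Nat.pow_le_pow_right two_pos (by omega)
  have := Cfsg.Agent.S0496.result hG (by omega)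
  omega

end Cy

end Cfsg.Lib.N9
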